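import Cfsg.Agent.Lib.TwoPrime82.Classify

/-!
# An almost simple two-prime group is simple
-/

set_option autoImplicit false
set_option linter.unusedSectionVars false
set_option linter.style.haveILetI false

namespace Cfsg.Agent.Lib.TwoPrime82

open Subgroup
open Cfsg.Agent.Lib.ClassSizes.Basic
open scoped Pointwise

universe u

variable {X : Type u} [Group X] [Finite X]

theorem conjNormal_coe (T : Subgroup X) [T.Normal] (a : T) :
    MulAut.conjNormal (a : X) = MulAut.conj a := by
  ext b
  simp

theorem index_map_le (T : Subgroup X) [T.Normal] {q : ℕ} [Fact q.Prime] (Q : Sylow q T) :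
    (normalizer (((Q : Subgroup T).map T.subtype : Subgroup X) : Set X)).index ≤
      (normalizer ((Q : Subgroup T) : Set T)).index := by
  set N := normalizer (((Q : Subgroup T).map T.subtype : Subgroup X) : Set X) with hN
  set N₀ := normalizer ((Q : Subgroup T) : Set T)
  have hle : ∀ m : T, m ∈ N₀ → (m : X) ∈ N := by
    intro m hm
    refine Isometry.TI.mem_normalizer_of_mapsTo ?_
    rintro _ ⟨b, hb, rfl⟩
    exact ⟨m * b * m⁻¹, (mem_normalizer_iff.1 hm b).1 hb, by simp⟩
  let F : T ⧸ N₀ → X ⧸ N := Quotient.map' (fun t => (t : X)) (fun a b hab => by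
    rw [QuotientGroup.leftRel_apply] at hab ⊢
    simpa using hle _ hab)
  have hF : Function.Surjective F := by
    intro y
    obtain ⟨x, rfl⟩ := QuotientGroup.mk_surjective y
    have hx : x ∈ T ⊔ N := by
      rw [sup_comm, hN, Sylow.normalizer_sup_eq_top Q]
      exact mem_top x
    obtain ⟨t, ht, n, hn, rfl⟩ := mem_sup_of_normal_left.1 hx
    refine ⟨((⟨t, ht⟩ : T) : T ⧸ N₀), ?_⟩
    show ((t : X) : X ⧸ N) = _
    rw [QuotientGroup.eq]
    simpa using hn
  rw [index_eq_card, index_eq_card]
  exact Nat.card_le_card_of_surjective F hF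

theorem nFree_sub_le (T : Subgroup X) [T.Normal] {q : ℕ} [Fact q.Prime] (Q : Sylow q T) :
    nFree X q ≤ (normalizer ((Q : Subgroup T) : Set T)).index *
      Nat.card (centralizer (((Q : Subgroup T).map T.subtype : Subgroup X) : Set X)) := by
  refine (nFree_le ((Q : Subgroup T).map T.subtype) fun x hx => ?_).trans
    (Nat.mul_le_mul_right _ (index_map_le T Q))
  obtain ⟨S, hS⟩ := exists_sylow_le (H := (centralizer ({x} : Set X)).subgroupOf T)
    (fun hd => hx (hd.trans (index_sub_dvd T x)))
  obtain ⟨g, hg⟩ := MulAction.exists_smul_eq T Q S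
  refine ⟨g, ?_⟩
  rintro _ ⟨b, hb, rfl⟩
  have h : g * b * g⁻¹ ∈ (S : Subgroup T) := by
    rw [← hg, Sylow.coe_subgroup_smul]
    exact smul_mem_pointwise_smul _ (MulAut.conj g) _ hb
  simpa using mem_subgroupOf.1 (hS h)

/-- A centraliser in an almost simple group of a group permuting the Sylow 2-subgroups transitively. -/
theorem cen_le {T : Subgroup X} [T.Normal] (hT : Setting T) [Fact (Nat.Prime 2)]
    (hC : centralizer (T : Set X) = ⊥) (Q : Subgroup T) (hQc : IsMulCommutative Q) (Q' : Sylow 2 T)
    (hQ' : (Q' : Subgroup T) ≠ Q)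
    (hQ : ∀ S : Sylow 2 T, (S : Subgroup T) = Q ∨ ∃ a ∈ Q, a • Q' = S) :
    centralizer ((Q.map T.subtype : Subgroup X) : Set X) ≤ Q.map T.subtype := by
  classical
  haveI := hT.simple
  intro c hc
  set φ : MulAut T := MulAut.conjNormal c with hφ
  have hfix : ∀ b ∈ Q, φ b = b := by
    intro b hb
    apply Subtype.ext
    rw [hφ, MulAut.conjNormal_apply, ← mem_centralizer_iff.1 hc (b : X) ⟨b, hb, rfl⟩,
      mul_inv_cancel_right]
  rcases hQ (φ • Q') with e | ⟨a, ha, e⟩
  · exfalso
    apply hQ'
    have hle : (Q' : Subgroup T) ≤ Q := by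
      intro y hy
      have h1 : φ y ∈ Q := by
        rw [← e, Sylow.pointwise_smul_def]
        exact smul_mem_pointwise_smul _ φ _ hy
      have h2 := φ.injective (hfix _ h1)
      rwa [h2] at h1
    refine Subgroup.eq_of_le_of_card_ge hle ?_
    rw [← e, Sylow.card_eq_multiplicity, Sylow.card_eq_multiplicity]
  set c' : X := (a : X)⁻¹ * c with hc'
  set ψ : MulAut T := MulAut.conjNormal c' with hψ
  have hψQ' : ψ • Q' = Q' := by
    rw [hψ, hc', map_mul, map_inv, conjNormal_coe, mul_smul, ← hφ, ← e, Sylow.smul_def,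
      inv_smul_smul]
  have hψfix : ∀ b ∈ Q, ψ b = b := by
    intro b hb
    rw [hψ, hc', map_mul, map_inv, conjNormal_coe, MulAut.mul_apply, ← hφ, hfix b hb,
      MulAut.conj_inv_apply]
    have := congrArg Subtype.val (hQc.is_comm.comm (⟨b, hb⟩ : Q) ⟨a, ha⟩)
    simp only [coe_mul] at this
    rw [mul_assoc, this, inv_mul_cancel_left]
  set K : Subgroup X :=
    ((MulAction.toPermHom (MulAut T) (Sylow 2 T)).comp (MulAut.conjNormal (H := T))).ker with hK
  have hmem : c' ∈ K := by
    rw [hK, MonoidHom.mem_ker]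
    refine Equiv.ext fun S => ?_
    show ψ • S = S
    rcases hQ S with e | ⟨b, hb, e⟩
    · refine Sylow.ext ?_
      ext y
      rw [Sylow.pointwise_smul_def, Subgroup.mem_pointwise_smul_iff_inv_smul_mem, e]
      show ψ⁻¹ y ∈ Q ↔ y ∈ Q
      constructor
      · intro hy
        have h := hψfix _ hy
        rw [MulAut.apply_inv_self] at h
        rwa [← h] at hy
      · intro hy
        have h : ψ⁻¹ y = y := by conv_lhs => rw [← hψfix y hy, MulAut.inv_apply_self]
        rwa [h]
    · subst e
      rw [Sylow.smul_def, ← mul_smul,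
        show ψ * MulAut.conj b = MulAut.conj (ψ b) * ψ by ext y; simp, mul_smul, hψQ', hψfix b hb]
  have hbot : K.subgroupOf T = ⊥ := by
    refine ((inferInstance : (K.subgroupOf T).Normal).eq_bot_or_eq_top).resolve_right fun htop => ?_
    have hn : normalizer ((Q' : Subgroup T) : Set T) = ⊤ := by
      refine eq_top_iff.2 fun t _ => ?_
      have h1 : (t : X) ∈ K := mem_subgroupOf.1 (htop ▸ mem_top t)
      have h2 := congrArg (fun p : Equiv.Perm (Sylow 2 T) => p Q') (MonoidHom.mem_ker.1 h1)
      simp only [MonoidHom.comp_apply, conjNormal_coe, Equiv.Perm.coe_one, id_eq] at h2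
      exact Sylow.smul_eq_iff_mem_normalizer.1 (Sylow.smul_def.trans h2)
    rcases (normalizer_eq_top_iff.1 hn).eq_bot_or_eq_top with e | e
    · exact Q'.ne_bot_of_dvd_card hT.two_dvd e
    · obtain ⟨k, hk⟩ := IsPGroup.iff_card.1 Q'.isPGroup'
      rw [e, card_top] at hk
      have := hT.card_three
      rcases Nat.eq_zero_or_pos k with rfl | hk0
      · rw [hk, pow_zero, Nat.primeFactors_one] at this; simp at this
      · rw [hk, Nat.primeFactors_prime_pow hk0.ne' Nat.prime_two] at this; simp at this
  have hKC : K ≤ centralizer (T : Set X) := by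
    intro k hk
    rw [mem_centralizer_iff]
    intro t ht
    have h1 : k * t * k⁻¹ * t⁻¹ ∈ T :=
      mul_mem ((inferInstance : T.Normal).conj_mem t ht k) (inv_mem ht)
    have h2 : k * t * k⁻¹ * t⁻¹ ∈ K := by
      have := mul_mem hk ((inferInstance : K.Normal).conj_mem k⁻¹ (inv_mem hk) t)
      simpa [mul_assoc] using this
    have h3 : (⟨_, h1⟩ : T) ∈ K.subgroupOf T := h2
    rw [hbot, mem_bot] at h3
    have h4 : k * t * k⁻¹ * t⁻¹ = 1 := congrArg Subtype.val h3
    rw [mul_inv_eq_one, mul_inv_eq_iff_eq_mul] at h4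
    exact h4.symm
  have h5 := hKC hmem
  rw [hC, mem_bot] at h5
  rw [hc', inv_mul_eq_one] at h5
  exact ⟨a, ha, h5⟩

theorem eq_top_of_almost {T : Subgroup X} [T.Normal] (hX : TwoPrime X) (hT : Setting T)
    (hC : centralizer (T : Set X) = ⊥) : T = ⊤ := by
  classical
  haveI := hT.simple
  by_contra hne
  haveI : Fact (Nat.Prime 2) := ⟨Nat.prime_two⟩
  obtain ⟨z, g0⟩ := CASimple67.exists_good hT.nab hT.isCT
  obtain ⟨F, _, _, f, hf, -, hcard, -⟩ := hT.exists_psl
  have hab : ∀ {r : ℕ} [Fact r.Prime], r ∈ (Nat.card T).primeFactors → ∀ P : Sylow r T,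
      IsMulCommutative (P : Subgroup T) := by
    intro r _ hr P
    by_cases h2 : r = 2
    · subst h2; exact hT.two_abelian P
    · exact hT.odd_abelian hr h2 P
  have hz1 := g0.ne_one
  obtain ⟨q, _, Q, hQ, hQc⟩ := hT.cen_sylow hz1
  obtain rfl : q = 2 := by
    by_contra hq
    have hmem : z ∈ (Q : Subgroup T) := hQ ▸ mem_cen.mpr rfl
    obtain ⟨k, hk⟩ := IsPGroup.iff_orderOf.mp Q.isPGroup' ⟨z, hmem⟩
    rw [← orderOf_coe] at hk
    simp only at hk
    rw [g0.ord] at hk
    have hd : 2 ∣ q ^ k := dvd_of_eq hk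
    exact hq ((Nat.prime_dvd_prime_iff_eq Nat.prime_two (Fact.out : q.Prime)).1
      (Nat.prime_two.dvd_of_dvd_pow hd)).symm
  set m := CASimple67.idx z with hm
  have hm3 := g0.three_le
  have hcQ : Nat.card (Q : Subgroup T) = m + 1 := by rw [← hQ]; exact g0.card_cen
  have hNQ : CASimple67.nrm' z = normalizer ((Q : Subgroup T) : Set T) := by
    rw [CASimple67.nrm', CASimple67.cen, hQ]
  have hiQ : (normalizer ((Q : Subgroup T) : Set T)).index = m + 2 := by
    rw [← hNQ, g0.degree, show CASimple67.cen z = centralizer ({z} : Set T) from rfl, hQ, hcQ]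
  have hcardT : Nat.card T = (m + 2) * ((m + 1) * m) := by
    rw [← Subgroup.index_mul_card (CASimple67.nrm' z), g0.card_nrm, hNQ, hiQ,
      show CASimple67.cen z = centralizer ({z} : Set T) from rfl, hQ, hcQ]
  have hm' : m + 1 = 2 ^ f := by
    rw [hcardT] at hcard
    have h4 : 4 ≤ 2 ^ f := by rcases hf with rfl | rfl <;> norm_num
    rcases hf with rfl | rfl
    · norm_num at hcard ⊢
      rcases Nat.lt_or_ge m 4 with h | h
      · omega
      · exfalso
        have := Nat.mul_le_mul (show 6 ≤ m + 2 by omega) (Nat.mul_le_mul (show 5 ≤ m + 1 by omega) h)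
        omega
    · norm_num at hcard ⊢
      rcases lt_trichotomy m 7 with h | h | h
      · exfalso
        have := Nat.mul_le_mul (show m + 2 ≤ 8 by omega)
          (Nat.mul_le_mul (show m + 1 ≤ 7 by omega) (show m ≤ 6 by omega))
        omega
      · omega
      · exfalso
        have := Nat.mul_le_mul (show 10 ≤ m + 2 by omega)
          (Nat.mul_le_mul (show 9 ≤ m + 1 by omega) (show 8 ≤ m by omega))
        omega
  -- the Sylow subgroup acting regularly
  obtain ⟨s, hs, hs2, b, hb, hsnd⟩ : ∃ s, s.Prime ∧ s ≠ 2 ∧ ∃ b, m + 2 = s ^ b ∧ b ≠ 0 ∧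
      ¬ s ∣ (m + 1) * m := by
    rcases hf with rfl | rfl
    · have e : m = 3 := by norm_num at hm'; omega
      rw [e]
      exact ⟨5, by norm_num, by norm_num, 1, by norm_num, one_ne_zero, by norm_num⟩
    · have e : m = 7 := by norm_num at hm'; omega
      rw [e]
      exact ⟨3, by norm_num, by norm_num, 2, by norm_num, by norm_num, by norm_num⟩
  obtain ⟨hb0, hsnd⟩ := hsnd
  haveI := Fact.mk hs
  obtain ⟨R⟩ : Nonempty (Sylow s T) := inferInstance
  have hR : Nat.card (R : Subgroup T) = m + 2 := by
    rw [R.card_eq_multiplicity, hcardT, Nat.factorization_mul (by omega) (Nat.mul_ne_zero (by omega) (by omega)),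
      Finsupp.add_apply, Nat.factorization_eq_zero_of_not_dvd hsnd, add_zero, hb,
      Nat.Prime.factorization_pow hs, Finsupp.single_eq_same]
  have hsT : s ∈ (Nat.card T).primeFactors :=
    Nat.mem_primeFactors.2 ⟨hs, (hcardT ▸ Dvd.dvd.mul_right (hb ▸ dvd_pow_self s hb0) _),
      Nat.card_pos.ne'⟩
  have hcs : ∀ S : Sylow 2 T,
      Nat.card (Sylow 2 T) = (normalizer ((S : Subgroup T) : Set T)).index :=
    fun S => Sylow.card_eq_index_normalizer S
  have hNcard : ∀ S : Sylow 2 T, Nat.card (normalizer ((S : Subgroup T) : Set T)) = (m + 1) * m := by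
    intro S
    have h1 : (normalizer ((S : Subgroup T) : Set T)).index = m + 2 := by
      rw [← hcs S, hcs Q, hiQ]
    have h2 := (normalizer ((S : Subgroup T) : Set T)).index_mul_card
    rw [h1, hcardT] at h2
    exact Nat.eq_of_mul_eq_mul_left (by omega) h2
  have hnum : Nat.card (Sylow 2 T) = m + 2 := by rw [hcs Q, hiQ]
  -- the centralisers of `Q` and `R`
  have hCR : centralizer (((R : Subgroup T).map T.subtype : Subgroup X) : Set X) ≤
      (R : Subgroup T).map T.subtype := by
    refine cen_le hT hC _ (hab hsT R) Q (fun e => ?_) (fun S => Or.inr ?_)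
    · have := congrArg (fun H : Subgroup T => Nat.card H) e
      simp only [hcQ, hR] at this
      omega
    · let F' : ↥(R : Subgroup T) → Sylow 2 T := fun a => (a : T) • Q
      have hinj : Function.Injective F' := by
        intro a c hac
        have h1 : (((c⁻¹ * a : (R : Subgroup T))) : T) ∈ normalizer ((Q : Subgroup T) : Set T) := by
          refine Sylow.smul_eq_iff_mem_normalizer.1 ?_
          rw [coe_mul, coe_inv, mul_smul,
            show (a : T) • Q = (c : T) • Q from hac, inv_smul_smul]
        by_contra hne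
        have hd : orderOf (c⁻¹ * a) ∣ (m + 1) * m := by
          rw [← hNcard Q, ← orderOf_coe]
          exact Subgroup.orderOf_dvd_natCard _ h1
        obtain ⟨k, hk⟩ := IsPGroup.iff_orderOf.mp R.isPGroup' (c⁻¹ * a)
        rcases Nat.eq_zero_or_pos k with rfl | hk0
        · exact hne (inv_mul_eq_one.1 (orderOf_eq_one_iff.1 (by rw [hk, pow_zero]))).symm
        · exact hsnd ((dvd_pow_self s hk0.ne').trans (hk ▸ hd))
      obtain ⟨a, ha⟩ := (hinj.bijective_of_nat_card_le (by rw [hnum, hR])).2 S
      exact ⟨a, a.2, ha⟩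
  obtain ⟨Q', hQ'⟩ : ∃ Q' : Sylow 2 T, Q' ≠ Q := by
    haveI : Nontrivial (Sylow 2 T) := by
      rw [← Finite.one_lt_card_iff_nontrivial, hnum]; omega
    exact exists_ne Q
  have hCQ : centralizer (((Q : Subgroup T).map T.subtype : Subgroup X) : Set X) ≤
      (Q : Subgroup T).map T.subtype := by
    refine cen_le hT hC _ hQc Q' (fun e => hQ' (Sylow.ext e)) (fun S => ?_)
    let F' : ↥(Q : Subgroup T) → {S : Sylow 2 T // S ≠ Q} := fun a => ⟨(a : T) • Q', fun e => hQ' (by
      have h1 : (a : T) • Q = Q := Sylow.smul_eq_iff_mem_normalizer.2 (le_normalizer a.2)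
      exact MulAction.injective (a : T) (e.trans h1.symm))⟩
    have hinj : Function.Injective F' := by
      intro a c hac
      have hac' : (a : T) • Q' = (c : T) • Q' := congrArg Subtype.val hac
      have h1 : (((c⁻¹ * a : (Q : Subgroup T))) : T) ∈ normalizer ((Q' : Subgroup T) : Set T) := by
        refine Sylow.smul_eq_iff_mem_normalizer.1 ?_
        rw [coe_mul, coe_inv, mul_smul, hac', inv_smul_smul]
      set d := c⁻¹ * a with hd
      obtain ⟨k, hk⟩ := IsPGroup.iff_orderOf.mp Q.isPGroup' d
      rw [← orderOf_coe] at hk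
      have hdQ' : (d : T) ∈ (Q' : Subgroup T) := ((IsPGroup.inf_normalizer_sylow
        (SylowNumbers.Basic.isPGroup_zpowers hk) Q').le ⟨mem_zpowers _, h1⟩).2
      by_contra hne
      have hd1 : (d : T) ≠ 1 := fun e => hne (inv_mul_eq_one.1 (Subtype.ext e)).symm
      obtain ⟨t, _, P, hP, -⟩ := hT.cen_sylow hd1
      have hQP : (Q : Subgroup T) ≤ P := hP ▸ fun y hy => mem_cen.mpr
        (congrArg Subtype.val (hQc.is_comm.comm d (⟨y, hy⟩ : (Q : Subgroup T))))
      have hQ'P : (Q' : Subgroup T) ≤ P := hP ▸ fun y hy => mem_cen.mpr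
        (congrArg Subtype.val ((hT.two_abelian Q').is_comm.comm (⟨(d : T), hdQ'⟩ : (Q' : Subgroup T))
          ⟨y, hy⟩))
      obtain rfl : t = 2 := by
        by_contra h2
        have hdisj := IsPGroup.disjoint_of_ne 2 t (Ne.symm h2) (Q : Subgroup T) (P : Subgroup T)
          Q.isPGroup' P.isPGroup'
        exact Q.ne_bot_of_dvd_card hT.two_dvd ((inf_eq_left.2 hQP).symm.trans hdisj.eq_bot)
      exact hQ' (Sylow.ext ((Q'.is_maximal' P.isPGroup' hQ'P).symm.trans
        (Q.is_maximal' P.isPGroup' hQP)))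
    by_cases hS : S = Q
    · exact Or.inl (congrArg _ hS)
    · right
      have := Fintype.ofFinite (Sylow 2 T)
      obtain ⟨a, ha⟩ := (hinj.bijective_of_nat_card_le (by
        rw [Nat.card_eq_fintype_card, Fintype.card_subtype_compl, Fintype.card_subtype_eq,
          ← Nat.card_eq_fintype_card, hnum, hcQ]; omega)).2 ⟨S, hS⟩
      exact ⟨a, a.2, congrArg Subtype.val ha⟩
  -- the count
  have hd : 2 ≤ T.index := by
    have h1 : T.index ≠ 1 := fun e => hne (index_eq_one.1 e)
    have h2 : T.index ≠ 0 := index_ne_zero_of_finite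
    omega
  have hXT : Nat.card X = Nat.card T * T.index := (T.card_mul_index).symm
  have hN2 : 2 * Nat.card T ≤ Nat.card X := by
    rw [hXT, mul_comm 2]; exact Nat.mul_le_mul_left _ hd
  have hsum2 : 6 * nFree X 2 ≤ Nat.card X := by
    refine le_trans ?_ hN2
    have h1 := nFree_sub_le T Q
    have h2 : Nat.card (centralizer (((Q : Subgroup T).map T.subtype : Subgroup X) : Set X)) ≤ m + 1 := by
      refine (Nat.le_of_dvd Nat.card_pos (card_dvd_of_le hCQ)).trans (le_of_eq ?_)
      rw [card_map_of_injective T.subtype_injective, hcQ]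
    rw [hiQ] at h1
    have h3 := Nat.mul_le_mul_left (m + 2) h2
    have h4 : 3 * ((m + 2) * (m + 1)) ≤ Nat.card T := by
      rw [hcardT, ← mul_assoc (m + 2), mul_comm 3]
      exact Nat.mul_le_mul_left _ hm3
    omega
  have hgen : ∀ {r : ℕ} [Fact r.Prime] (P : Sylow r T), r ∣ Nat.card T →
      2 * ((normalizer ((P : Subgroup T) : Set T)).index *
        Nat.card (centralizer ((P : Subgroup T) : Set T))) ≤ Nat.card T := by
    intro r _ P hr
    calc 2 * ((normalizer ((P : Subgroup T) : Set T)).index *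
          Nat.card (centralizer ((P : Subgroup T) : Set T)))
        ≤ aut P * ((normalizer ((P : Subgroup T) : Set T)).index *
          Nat.card (centralizer ((P : Subgroup T) : Set T))) :=
          Nat.mul_le_mul_right _ (hT.two_le_aut P hr)
      _ = Nat.card T := by
        rw [aut, ← mul_assoc, relIndex_mul_index (centralizer_le_normalizer _), mul_comm,
          card_mul_index]
  have hsums : 4 * nFree X s ≤ Nat.card X := by
    refine le_trans ?_ hN2
    have h1 := nFree_sub_le T R
    have h2 : Nat.card (centralizer (((R : Subgroup T).map T.subtype : Subgroup X) : Set X)) ≤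
        Nat.card (centralizer ((R : Subgroup T) : Set T)) := by
      refine (Nat.le_of_dvd Nat.card_pos (card_dvd_of_le hCR)).trans ?_
      rw [card_map_of_injective T.subtype_injective]
      exact Nat.le_of_dvd Nat.card_pos (card_dvd_of_le (le_cen_self R (hab hsT R)))
    have h3 := Nat.mul_le_mul_left (normalizer ((R : Subgroup T) : Set T)).index h2
    have h4 := hgen R (Nat.dvd_of_mem_primeFactors hsT)
    omega
  have hsumr : ∀ {r : ℕ} [Fact r.Prime], r ∈ (Nat.card T).primeFactors →
      2 * nFree X r ≤ Nat.card X := by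
    intro r _ hr
    obtain ⟨P⟩ : Nonempty (Sylow r T) := inferInstance
    set C := centralizer (((P : Subgroup T).map T.subtype : Subgroup X) : Set X) with hCdef
    have hCT : C.subgroupOf T = centralizer ((P : Subgroup T) : Set T) := by
      ext y
      rw [mem_subgroupOf, hCdef, mem_centralizer_iff, mem_centralizer_iff]
      constructor
      · intro hy b hb
        exact Subtype.ext (hy b ⟨b, hb, rfl⟩)
      · rintro hy _ ⟨b, hb, rfl⟩
        exact congrArg Subtype.val (hy b hb)
    have h2 : Nat.card C ≤ Nat.card (centralizer ((P : Subgroup T) : Set T)) * T.index := by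
      have e2 : Nat.card (T.subgroupOf C) = Nat.card (centralizer ((P : Subgroup T) : Set T)) := by
        rw [← hCT]
        exact Nat.card_congr
          { toFun := fun y => ⟨⟨y.1.1, y.2⟩, y.1.2⟩
            invFun := fun y => ⟨⟨y.1.1, y.2⟩, y.1.2⟩
            left_inv := fun _ => rfl
            right_inv := fun _ => rfl }
      rw [← (T.subgroupOf C).card_mul_index, e2]
      exact Nat.mul_le_mul_left _ (Nat.le_of_dvd (by omega) (relIndex_dvd_index_of_normal T C))
    have h1 := nFree_sub_le T P
    have h3 := Nat.mul_le_mul_left (normalizer ((P : Subgroup T) : Set T)).index h2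
    have h4 := Nat.mul_le_mul_right T.index (hgen P (Nat.dvd_of_mem_primeFactors hr))
    rw [hXT]
    calc 2 * nFree X r ≤ 2 * ((normalizer ((P : Subgroup T) : Set T)).index *
          (Nat.card (centralizer ((P : Subgroup T) : Set T)) * T.index)) :=
          Nat.mul_le_mul_left _ (h1.trans h3)
      _ = 2 * ((normalizer ((P : Subgroup T) : Set T)).index *
          Nat.card (centralizer ((P : Subgroup T) : Set T))) * T.index := by ring
      _ ≤ _ := h4
  -- conclusion
  have h2T : 2 ∈ (Nat.card T).primeFactors :=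
    Nat.mem_primeFactors.2 ⟨Nat.prime_two, hT.two_dvd, Nat.card_pos.ne'⟩
  obtain ⟨p, hp, hp2, hps⟩ : ∃ p ∈ (Nat.card T).primeFactors, p ≠ 2 ∧ p ≠ s := by
    by_contra hall
    push Not at hall
    have hsub : (Nat.card T).primeFactors ⊆ {2, s} := fun p hp => by
      by_cases h2 : p = 2
      · simp [h2]
      · simp [hall p hp h2]
    have := Finset.card_le_card hsub
    rw [hT.card_three, Finset.card_pair (Ne.symm hs2)] at this
    omega
  haveI := Fact.mk (Nat.prime_of_mem_primeFactors hp)
  have hp' := hsumr hp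
  set π := (Nat.card X).primeFactors with hπ
  have hsubπ : ({2, p, s} : Finset ℕ) ⊆ π := by
    intro r hr
    refine Nat.primeFactors_mono (T.card_subgroup_dvd_card) Nat.card_pos.ne' ?_
    simp only [Finset.mem_insert, Finset.mem_singleton] at hr
    rcases hr with rfl | rfl | rfl
    · exact h2T
    · exact hp
    · exact hsT
  have h3 : ({2, p, s} : Finset ℕ).card = 3 :=
    Finset.card_eq_three.2 ⟨2, p, s, Ne.symm hp2, Ne.symm hs2, hps, rfl⟩
  have hk : 3 ≤ π.card := h3 ▸ Finset.card_le_card hsubπ
  have hsum := sum_nFree hX π rfl (by omega)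
  rw [← Finset.sum_sdiff hsubπ, sum_three hp2 hs2 hps] at hsum
  have hrest : ∑ r ∈ π \ ({2, p, s} : Finset ℕ), nFree X r ≤ (π.card - 3) * Nat.card X := by
    refine (Finset.sum_le_card_nsmul _ _ (Nat.card X) fun r _ => nFree_le_card r).trans (le_of_eq ?_)
    rw [Finset.card_sdiff_of_subset hsubπ, h3, smul_eq_mul]
  obtain ⟨k, hk'⟩ : ∃ k, π.card = 3 + k := ⟨_, (Nat.add_sub_cancel' hk).symm⟩
  rw [hk', show 3 + k - 2 = 1 + k by omega, Nat.add_mul, one_mul] at hsum
  rw [hk', show 3 + k - 3 = k by omega] at hrest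
  omega

end Cfsg.Agent.Lib.TwoPrime82
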