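import Cfsg.Agent.Lib.ClassSizes.Basic
import Cfsg.Agent.Lib.SylowNumbers.Basic
import Mathlib

/-!
# Class sizes with at most two prime divisors: counting

`Free q x`: the class size of `x` is prime to `q`.  The free elements for `q` lie in the conjugates of
the centraliser of a Sylow `q`-subgroup; each element is free for all but two of the primes of the group.
-/

set_option autoImplicit false
set_option linter.unusedSectionVars false
set_option linter.style.haveILetI false

namespace Cfsg.Agent.Lib.TwoPrime82

open Subgroup
open Cfsg.Agent.Lib.ClassSizes.Basic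

universe u

variable {G : Type u} [Group G]

/-- The class size of `x` is prime to `q`. -/
def Free (q : ℕ) (x : G) : Prop := ¬ q ∣ (centralizer ({x} : Set G)).index

/-- Every class size has at most two prime divisors. -/
def TwoPrime (G : Type u) [Group G] : Prop :=
  ∀ x : G, ((centralizer ({x} : Set G)).index).primeFactors.card ≤ 2

/-- The number of elements with class size prime to `q`. -/
noncomputable def nFree (G : Type u) [Group G] (q : ℕ) : ℕ := Nat.card {x : G // Free q x}

variable [Finite G]

theorem nFree_le_card (q : ℕ) : nFree G q ≤ Nat.card G :=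
  Nat.card_le_card_of_injective _ Subtype.val_injective

/-- The class size in a normal subgroup divides the class size. -/
theorem index_sub_dvd (N : Subgroup G) [N.Normal] (x : G) :
    ((centralizer ({x} : Set G)).subgroupOf N).index ∣ (centralizer ({x} : Set G)).index :=
  Cfsg.Agent.Lib.SylowNumbers.Basic.relIndex_dvd_index_of_normal_right _ _

omit [Finite G] in
theorem cen_sub {H : Subgroup G} (x : H) :
    centralizer ({x} : Set H) = (centralizer ({(x : G)} : Set G)).subgroupOf H := by
  ext y
  rw [mem_subgroupOf, mem_centralizer_singleton_iff, mem_centralizer_singleton_iff, Subtype.ext_iff]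
  rfl

theorem twoPrime_sub (h : TwoPrime G) (N : Subgroup G) [N.Normal] : TwoPrime N := fun x => by
  refine le_trans (Finset.card_le_card (Nat.primeFactors_mono ?_ Subgroup.index_ne_zero_of_finite))
    (h (x : G))
  rw [cen_sub]
  exact index_sub_dvd N (x : G)

omit [Finite G] in
theorem index_map_dvd' {H : Type*} [Group H] (f : G →* H) (hf : Function.Surjective f) (x : G) :
    (centralizer ({f x} : Set H)).index ∣ (centralizer ({x} : Set G)).index := by
  refine dvd_trans (index_dvd_of_le ?_) (index_map_dvd (H := centralizer ({x} : Set G)) (f := f) hf)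
  rintro z ⟨c, hc, rfl⟩
  rw [SetLike.mem_coe, mem_centralizer_singleton_iff] at hc
  rw [mem_centralizer_singleton_iff, ← map_mul, ← map_mul, hc]

theorem twoPrime_map (h : TwoPrime G) {H : Type*} [Group H] (f : G →* H)
    (hf : Function.Surjective f) : TwoPrime H := fun y => by
  obtain ⟨x, rfl⟩ := hf y
  exact le_trans (Finset.card_le_card
    (Nat.primeFactors_mono (index_map_dvd' f hf x) Subgroup.index_ne_zero_of_finite)) (h x)

/-- The free elements lie in the conjugates of the centraliser of `Q`. -/
theorem nFree_le {q : ℕ} (Q : Subgroup G)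
    (hQ : ∀ x : G, Free q x → ∃ g : G, ∀ a ∈ Q, g * a * g⁻¹ ∈ centralizer ({x} : Set G)) :
    nFree G q ≤ (normalizer (Q : Set G)).index * Nat.card (centralizer (Q : Set G)) := by
  classical
  set N := normalizer (Q : Set G) with hN
  let F : (G ⧸ N) × centralizer (Q : Set G) → G := fun c => c.1.out * (c.2 : G) * c.1.out⁻¹
  have hsub : {x : G | Free q x} ⊆ Set.range F := by
    intro x hx
    obtain ⟨g, hg⟩ := hQ x hx
    obtain ⟨n, hn⟩ := QuotientGroup.mk_out_eq_mul N g
    refine ⟨((g : G ⧸ N), ⟨(n : G)⁻¹ * (g⁻¹ * x * g) * n, ?_⟩), ?_⟩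
    · rw [mem_centralizer_iff]
      intro a ha
      have hcomm := mem_cen.mp (hg _ ((mem_normalizer_iff.mp n.2 a).mp ha))
      calc a * ((n : G)⁻¹ * (g⁻¹ * x * g) * n)
          = (n : G)⁻¹ * (g⁻¹ * (g * ((n : G) * a * (n : G)⁻¹) * g⁻¹ * x) * g) * n := by group
        _ = (n : G)⁻¹ * (g⁻¹ * (x * (g * ((n : G) * a * (n : G)⁻¹) * g⁻¹)) * g) * n := by
            rw [hcomm]
        _ = _ := by group
    · simp only [F]
      rw [hn]
      group
  calc nFree G q = ({x : G | Free q x}).ncard := Nat.card_coe_set_eq _
    _ ≤ (Set.range F).ncard := Set.ncard_le_ncard hsub (Set.toFinite _)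
    _ ≤ Nat.card ((G ⧸ N) × centralizer (Q : Set G)) := by
        rw [← Nat.card_coe_set_eq]
        exact Finite.card_range_le F
    _ = _ := by rw [Nat.card_prod]; rfl

theorem nFree_mul_le {q : ℕ} [Fact q.Prime] (Q : Sylow q G) :
    nFree G q * (centralizer ((Q : Subgroup G) : Set G)).relIndex
      (normalizer ((Q : Subgroup G) : Set G)) ≤ Nat.card G := by
  have h := nFree_le (q := q) (Q : Subgroup G) fun x hx => by
    obtain ⟨S, hS⟩ := exists_sylow_le hx
    obtain ⟨g, hg⟩ := MulAction.exists_smul_eq G Q S
    refine ⟨g, fun a ha => hS ?_⟩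
    rw [← hg, Sylow.coe_subgroup_smul]
    exact smul_mem_pointwise_smul _ (MulAut.conj g) _ ha
  set N := normalizer ((Q : Subgroup G) : Set G) with hN
  set C := centralizer ((Q : Subgroup G) : Set G) with hC
  calc nFree G q * C.relIndex N ≤ N.index * Nat.card C * C.relIndex N := Nat.mul_le_mul_right _ h
    _ = Nat.card C * (C.relIndex N * N.index) := by ring
    _ = Nat.card G := by
        rw [relIndex_mul_index (centralizer_le_normalizer _), card_mul_index]

/-- Each element is free for all but two primes, the identity for all of them. -/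
theorem sum_nFree (h : TwoPrime G) (P : Finset ℕ) (hP : P = (Nat.card G).primeFactors)
    (h2 : 2 ≤ P.card) :
    (P.card - 2) * Nat.card G + 2 ≤ ∑ q ∈ P, nFree G q := by
  classical
  have := Fintype.ofFinite G
  have h1 : ∑ q ∈ P, nFree G q = ∑ x : G, (P.filter fun q => Free q x).card := by
    simp only [nFree, Nat.card_eq_fintype_card, Fintype.card_subtype, Finset.card_filter]
    exact Finset.sum_comm
  have hx : ∀ x : G, P.card - 2 ≤ (P.filter fun q => Free q x).card := by
    intro x
    have hsub : P \ (centralizer ({x} : Set G)).index.primeFactors ⊆ P.filter fun q => Free q x := by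
      intro q hq
      obtain ⟨hq1, hq2⟩ := Finset.mem_sdiff.1 hq
      refine Finset.mem_filter.2 ⟨hq1, fun hd => hq2 ?_⟩
      exact Nat.mem_primeFactors.2 ⟨(Nat.mem_primeFactors.1 (hP ▸ hq1)).1, hd,
        Subgroup.index_ne_zero_of_finite⟩
    have h3 := Finset.card_le_card hsub
    have h4 := Finset.le_card_sdiff (centralizer ({x} : Set G)).index.primeFactors P
    have h5 := h x
    omega
  have hone : (P.filter fun q => Free q (1 : G)).card = P.card := by
    rw [Finset.filter_true_of_mem]
    intro q hq hd
    have htop : centralizer ({1} : Set G) = ⊤ := by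
      ext y; simp [mem_centralizer_singleton_iff]
    rw [htop, index_top, Nat.dvd_one] at hd
    exact (Nat.mem_primeFactors.1 (hP ▸ hq)).1.ne_one hd
  rw [h1, ← Finset.add_sum_erase _ _ (Finset.mem_univ (1 : G)), hone]
  have h6 : ((Finset.univ : Finset G).erase 1).card * (P.card - 2) ≤
      ∑ x ∈ (Finset.univ : Finset G).erase 1, (P.filter fun q => Free q x).card := by
    rw [← smul_eq_mul]
    exact Finset.card_nsmul_le_sum _ _ _ fun x _ => hx x
  rw [Finset.card_erase_of_mem (Finset.mem_univ _), Finset.card_univ, ← Nat.card_eq_fintype_card,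
    Nat.sub_mul, one_mul, mul_comm] at h6
  have : P.card - 2 ≤ (P.card - 2) * Nat.card G := Nat.le_mul_of_pos_right _ Nat.card_pos
  omega

end Cfsg.Agent.Lib.TwoPrime82
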