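import Cfsg.Agent.Lib.Isometry.Inner
import Cfsg.Agent.Lib.Characters.Linear
import Cfsg.Agent.Lib.Characters.Complete
import Mathlib

/-!
# Auxiliary facts: the dual of an abelian group; families of norm two virtual characters

`exists_common`: virtual characters of norm two and degree `-1`, orthogonal to `1`, with pairwise inner
product one unless equal, have a common signed irreducible constituent.
-/

set_option autoImplicit false
set_option linter.unusedSectionVars false
set_option linter.style.haveILetI false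

namespace Cfsg.Agent.Lib.TwoPrime82

open scoped ComplexConjugate
open Cfsg.Agent.Lib.Isometry.Inner
open Cfsg.Agent.Lib.Induced.Basic (classInner_add_left classInner_add_right classInner_sub_left
  classInner_sub_right classInner_smul_left classInner_smul_right classInner_conj_symm)

universe u v

section Dual

variable {R : Type u} [Group R]

/-- A linear character as a function. -/
def lin (ν : R →* ℂˣ) : R → ℂ := fun x => (ν x : ℂ)

theorem lin_one : lin (1 : R →* ℂˣ) = fun _ => (1 : ℂ) := by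
  funext x; simp [lin]

instance finite_dual [Finite R] : Finite (R →* ℂˣ) :=
  Finite.of_injective _ Characters.Linear.linChar_injective

theorem conj_lin [Finite R] (ν : R →* ℂˣ) (x : R) : conj (ν x : ℂ) = (ν⁻¹ x : ℂ) := by
  have h := Characters.Basic.apply_inv (Characters.Basic.isCharacter_irr
    (Characters.Linear.linChar ν)) x
  rw [Characters.Linear.linChar_apply, Characters.Linear.linChar_apply] at h
  rw [← h, map_inv, MonoidHom.inv_apply]

theorem inner_lin [Fintype R] (ν ν' : R →* ℂˣ) :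
    Cfsg.classInner (lin ν) (lin ν') = if ν = ν' then 1 else 0 := by
  classical
  have h := Characters.Basic.classInner_irr (Characters.Linear.linChar ν) (Characters.Linear.linChar ν')
  simp only [Characters.Linear.linChar_injective.eq_iff] at h
  exact h

theorem sum_dual [Finite R] [Fintype (R →* ℂˣ)] (hc : IsMulCommutative R) {x : R} (hx : x ≠ 1) :
    ∑ ν : R →* ℂˣ, (ν x : ℂ) = 0 := by
  haveI := hc
  obtain ⟨φ, hφ⟩ : ∃ φ : R →* ℂˣ, φ x ≠ 1 := by
    open scoped IsMulCommutative in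
    exact CommGroup.exists_apply_ne_one_of_hasEnoughRootsOfUnity R ℂ hx
  have e : (φ x : ℂ) * ∑ ν : R →* ℂˣ, (ν x : ℂ) = ∑ ν : R →* ℂˣ, (ν x : ℂ) := by
    rw [Finset.mul_sum]
    exact Fintype.sum_equiv (Equiv.mulLeft φ) _ _ fun ν => by simp
  refine (mul_eq_zero.1 (show ((φ x : ℂ) - 1) * _ = 0 by linear_combination e)).resolve_left ?_
  exact fun h => hφ (Units.ext (sub_eq_zero.1 h))

theorem card_dual [Fintype R] [Fintype (R →* ℂˣ)] (hc : IsMulCommutative R) :
    (Fintype.card (R →* ℂˣ) : ℂ) = Fintype.card R := by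
  classical
  have h1 : ∑ x : R, ∑ ν : R →* ℂˣ, (ν x : ℂ) = Fintype.card (R →* ℂˣ) := by
    rw [← Finset.add_sum_erase _ _ (Finset.mem_univ (1 : R))]
    rw [Finset.sum_eq_zero fun x hx => sum_dual hc (Finset.ne_of_mem_erase hx)]
    simp
  have h2 : ∑ ν : R →* ℂˣ, ∑ x : R, (ν x : ℂ) = Fintype.card R := by
    rw [← Finset.add_sum_erase _ _ (Finset.mem_univ (1 : R →* ℂˣ))]
    rw [Finset.sum_eq_zero (s := (Finset.univ : Finset (R →* ℂˣ)).erase 1) fun ν hν => ?_]
    · simp
    · have h := inner_lin ν 1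
      rw [if_neg (Finset.ne_of_mem_erase hν), Cfsg.classInner] at h
      rcases mul_eq_zero.1 h with h | h
      · simp at h
      · simpa [lin] using h
  rw [← h1, ← h2, Finset.sum_comm]

theorem inv_inv_hom (ν : R →* ℂˣ) : ν⁻¹⁻¹ = ν := MonoidHom.ext fun x => by simp

theorem sum_inv_hom [Fintype (R →* ℂˣ)] (x : R) :
    ∑ ν : R →* ℂˣ, (ν⁻¹ x : ℂ) = ∑ ν : R →* ℂˣ, (ν x : ℂ) :=
  Fintype.sum_equiv ⟨fun ν => ν⁻¹, fun ν => ν⁻¹, inv_inv_hom, inv_inv_hom⟩ _ _ fun _ => rfl

/-- `ν x + ν x⁻¹`. -/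
def theta (ν : R →* ℂˣ) (x : R) : ℂ := (ν x : ℂ) + (ν⁻¹ x : ℂ)

theorem theta_inv (ν : R →* ℂˣ) (x : R) : theta ν⁻¹ x = theta ν x := by
  simp only [theta, inv_inv_hom]; ring

theorem conj_theta [Finite R] (ν : R →* ℂˣ) (x : R) : conj (theta ν x) = theta ν x := by
  rw [theta, map_add, conj_lin, conj_lin, inv_inv_hom, add_comm]

theorem sum_ne_one [Fintype (R →* ℂˣ)] (F : (R →* ℂˣ) → ℂ)
    [Fintype {ν : R →* ℂˣ // ν ≠ 1}] :
    ∑ i : {ν : R →* ℂˣ // ν ≠ 1}, F i = ∑ ν : R →* ℂˣ, F ν - F 1 := by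
  classical
  rw [← Finset.sum_subtype ((Finset.univ : Finset (R →* ℂˣ)).erase 1) (by simp) F,
    Finset.sum_erase_eq_sub (Finset.mem_univ _)]

theorem sum_theta [Fintype R] [Fintype (R →* ℂˣ)] [Fintype {ν : R →* ℂˣ // ν ≠ 1}]
    (hc : IsMulCommutative R) {x : R} (hx : x ≠ 1) :
    ∑ i : {ν : R →* ℂˣ // ν ≠ 1}, theta i.1 x = -2 := by
  rw [sum_ne_one fun ν => theta ν x]
  simp only [theta, Finset.sum_add_distrib]
  rw [sum_inv_hom, sum_dual hc hx]
  simp
  norm_num

theorem sum_theta_sq [Fintype R] [Fintype (R →* ℂˣ)] [Fintype {ν : R →* ℂˣ // ν ≠ 1}]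
    (hc : IsMulCommutative R) {x : R} (hx : x * x ≠ 1) :
    ∑ i : {ν : R →* ℂˣ // ν ≠ 1}, theta i.1 x * theta i.1 x = 2 * Fintype.card R - 4 := by
  have e : ∀ ν : R →* ℂˣ, theta ν x * theta ν x = (ν (x * x) : ℂ) + (ν⁻¹ (x * x) : ℂ) + 2 := by
    intro ν
    simp only [theta, MonoidHom.inv_apply, map_mul, Units.val_mul]
    have h1 : (ν x : ℂ) * ((ν x)⁻¹ : ℂˣ) = 1 := Units.mul_inv _
    linear_combination (2 : ℂ) * h1
  rw [sum_ne_one fun ν => theta ν x * theta ν x]
  simp only [e, Finset.sum_add_distrib]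
  rw [sum_inv_hom, sum_dual hc hx]
  simp [card_dual hc]
  ring

end Dual

section Common

variable {G : Type u} [Group G] [Fintype G]

theorem exists_int_degree {θ : G → ℂ} (h : Cfsg.IsGeneralizedCharacter G θ) : ∃ z : ℤ, θ 1 = z := by
  obtain ⟨χ, ψ, hχ, hψ, rfl⟩ := h
  obtain ⟨n, hn⟩ := Characters.Basic.exists_degree hχ
  obtain ⟨m, hm⟩ := Characters.Basic.exists_degree hψ
  exact ⟨(n : ℤ) - m, by simp [hn, hm]⟩

/-- A virtual character of norm two has an orthogonal signed constituent pair. -/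
theorem exists_pair {θ : G → ℂ} (h : Cfsg.IsGeneralizedCharacter G θ)
    (h2 : Cfsg.classInner θ θ = 2) :
    ∃ a : G → ℂ, (Cfsg.IsIrrCharacter G a ∨ Cfsg.IsIrrCharacter G (-a)) ∧
      Cfsg.classInner θ a = 1 := by
  classical
  have := Fintype.ofFinite (Cfsg.IrrCharacter G)
  obtain ⟨c, hc, -, hn⟩ := gen_coeff h
  rw [h2] at hn
  have hsum : ∑ χ, c χ ^ 2 = 2 := by exact_mod_cast hn.symm
  obtain ⟨χ, hχ⟩ : ∃ χ, c χ ≠ 0 := by
    by_contra hne
    push Not at hne
    simp [hne] at hsum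
  have hle : c χ ^ 2 ≤ 2 := hsum ▸
    Finset.single_le_sum (f := fun ψ => c ψ ^ 2) (fun _ _ => sq_nonneg _) (Finset.mem_univ χ)
  rcases (show c χ = 1 ∨ c χ = -1 by
    have : -1 ≤ c χ ∧ c χ ≤ 1 := ⟨by nlinarith, by nlinarith⟩
    omega) with e | e
  · exact ⟨χ, Or.inl χ.2, by rw [hc, e]; norm_num⟩
  · exact ⟨-(χ : G → ℂ), Or.inr (by rw [neg_neg]; exact χ.2),
      by rw [classInner_neg_right, hc, e]; norm_num⟩

theorem signed_sub {θ a : G → ℂ} (h : Cfsg.IsGeneralizedCharacter G θ)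
    (h2 : Cfsg.classInner θ θ = 2)
    (ha : Cfsg.IsIrrCharacter G a ∨ Cfsg.IsIrrCharacter G (-a)) (h1 : Cfsg.classInner θ a = 1) :
    Cfsg.IsIrrCharacter G (θ - a) ∨ Cfsg.IsIrrCharacter G (-(θ - a)) := by
  refine signed_of_norm_one (gen_sub h (gen_of_signed ha)) ?_
  rw [classInner_sub_left, classInner_sub_right, classInner_sub_right, h2, h1,
    classInner_gen_comm (gen_of_signed ha) h, h1, classInner_self_signed ha]
  norm_num

theorem exists_common {ι : Type v} [Nonempty ι] [DecidableEq ι] (D : ι → G → ℂ) (inv : ι → ι)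
    (hinv : ∀ i, inv (inv i) = i) (hne : ∀ i, inv i ≠ i)
    (gen : ∀ i, Cfsg.IsGeneralizedCharacter G (D i)) (deg : ∀ i, D i 1 = -1)
    (inner : ∀ i j, Cfsg.classInner (D i) (D j) =
      1 + (if i = j then 1 else 0) + (if i = inv j then 1 else 0) ) :
    ∃ U : G → ℂ, (Cfsg.IsIrrCharacter G U ∨ Cfsg.IsIrrCharacter G (-U)) ∧
      ∀ i, Cfsg.classInner (D i) U = 1 := by
  classical
  have h2 : ∀ i, Cfsg.classInner (D i) (D i) = 2 := fun i => by
    rw [inner, if_pos rfl, if_neg (hne i).symm]; norm_num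
  have hDinv : ∀ i, D (inv i) = D i := fun i => by
    have e : Cfsg.classInner (D (inv i) - D i) (D (inv i) - D i) = 0 := by
      rw [classInner_sub_left, classInner_sub_right, classInner_sub_right, h2, h2, inner, inner,
        if_neg (hne i), if_pos rfl, if_neg (hne i).symm, if_pos (hinv i).symm]
      norm_num
    exact sub_eq_zero.1 (eq_zero_of_classInner_self e)
  obtain ⟨i₀⟩ := (inferInstance : Nonempty ι)
  obtain ⟨a, ha, hDa⟩ := exists_pair (gen i₀) (h2 i₀)
  obtain ⟨b, hb_def⟩ : ∃ b, b = D i₀ - a := ⟨_, rfl⟩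
  have hb : Cfsg.IsIrrCharacter G b ∨ Cfsg.IsIrrCharacter G (-b) := by
    rw [hb_def]; exact signed_sub (gen i₀) (h2 i₀) ha hDa
  have hab : Cfsg.classInner a b = 0 := by
    rw [hb_def, classInner_sub_right, classInner_gen_comm (gen_of_signed ha) (gen i₀), hDa,
      classInner_self_signed ha, sub_self]
  have hba : Cfsg.classInner b a = 0 := by
    rw [classInner_gen_comm (gen_of_signed hb) (gen_of_signed ha), hab]
  have key : ∀ i, Cfsg.classInner (D i) a = 1 ∨
      (Cfsg.classInner (D i) a = 0 ∧ Cfsg.classInner (D i) b = 1) := by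
    intro i
    obtain ⟨n, hn⟩ := classInner_gen_int (gen i) (gen_of_signed ha)
    obtain ⟨m, hm⟩ := classInner_gen_int (gen i) (gen_of_signed hb)
    by_cases hi : D i = D i₀
    · left; rw [hi, hDa]
    have hnm : n + m = 1 := by
      have e := inner i i₀
      rw [if_neg (fun e => hi (by rw [e])), if_neg (fun e => hi (by rw [e, hDinv]))] at e
      have e2 : D i₀ = a + b := by rw [hb_def]; abel
      rw [e2, classInner_add_right, hn, hm] at e
      have e3 : ((n + m : ℤ) : ℂ) = ((1 : ℤ) : ℂ) := by push_cast; rw [e]; norm_num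
      exact_mod_cast e3
    have hbes : n ^ 2 + m ^ 2 ≤ 2 := by
      have e := classInner_self_re_nonneg (D i - (n : ℂ) • a - (m : ℂ) • b)
      simp only [classInner_sub_left, classInner_sub_right, classInner_smul_left,
        classInner_smul_right, h2, hn, hm, classInner_self_signed ha, classInner_self_signed hb,
        hab, hba, classInner_gen_comm (gen_of_signed ha) (gen i),
        classInner_gen_comm (gen_of_signed hb) (gen i), map_intCast] at e
      have e2 : (0 : ℝ) ≤ 2 - (n : ℝ) ^ 2 - (m : ℝ) ^ 2 := by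
        refine le_of_le_of_eq e ?_
        simp [Complex.mul_re]
        ring
      have e3 : (n : ℝ) ^ 2 + (m : ℝ) ^ 2 ≤ 2 := by linarith
      exact_mod_cast e3
    rcases (show n = 1 ∨ (n = 0 ∧ m = 1) by
      have h1 : -1 ≤ n ∧ n ≤ 1 := ⟨by nlinarith, by nlinarith⟩
      have h2 : -1 ≤ m ∧ m ≤ 1 := ⟨by nlinarith, by nlinarith⟩
      omega) with e | ⟨e, e'⟩
    · left; rw [hn, e]; norm_num
    · right; exact ⟨by rw [hn, e]; norm_num, by rw [hm, e']; norm_num⟩
  by_cases hA : ∀ i, Cfsg.classInner (D i) a = 1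
  · exact ⟨a, ha, hA⟩
  by_cases hB : ∀ i, Cfsg.classInner (D i) b = 1
  · exact ⟨b, hb, hB⟩
  exfalso
  push Not at hA hB
  obtain ⟨j, hj⟩ := hA
  obtain ⟨k, hk⟩ := hB
  obtain ⟨hja, hjb⟩ := (key j).resolve_left hj
  have hka : Cfsg.classInner (D k) a = 1 := (key k).resolve_right fun e => hk e.2
  have hjk : Cfsg.classInner (D j) (D k) = 1 := by
    rw [inner, if_neg, if_neg]
    · norm_num
    · intro e; rw [e, hDinv, hka] at hja; exact one_ne_zero hja
    · intro e; rw [e, hka] at hja; exact one_ne_zero hja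
  have he := signed_sub (gen j) (h2 j) hb hjb
  have hc := signed_sub (gen k) (h2 k) ha hka
  have hec : Cfsg.classInner (D j - b) (D k - a) = 1 := by
    rw [classInner_sub_left, classInner_sub_right, classInner_sub_right, hjk, hja, hba]
    obtain ⟨m, hm⟩ := classInner_gen_int (gen k) (gen_of_signed hb)
    have hkb : Cfsg.classInner (D k) b = 0 := by
      obtain ⟨n, hn⟩ := classInner_gen_int (gen k) (gen_of_signed ha)
      have e := inner k i₀
      have hk0 : D k ≠ D i₀ := fun e => hk (by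
        rw [e, hb_def, classInner_sub_right, h2, hDa]; norm_num)
      rw [if_neg (fun e => hk0 (by rw [e])), if_neg (fun e => hk0 (by rw [e, hDinv]))] at e
      have e2 : D i₀ = a + b := by rw [hb_def]; abel
      rw [e2, classInner_add_right, hka] at e
      linear_combination e
    rw [classInner_gen_comm (gen_of_signed hb) (gen k), hkb]
    norm_num
  obtain ⟨ε, -, he', hε⟩ := (signed_cases he hc).resolve_left (by rw [hec]; exact one_ne_zero)
  rw [hec] at hε
  rw [← hε, one_smul] at he'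
  obtain ⟨z₁, hz₁⟩ := exists_int_degree (gen_of_signed ha)
  obtain ⟨z₂, hz₂⟩ := exists_int_degree (gen_of_signed hb)
  obtain ⟨z₃, hz₃⟩ := exists_int_degree (gen_of_signed hc)
  have e1 : ((z₁ + z₂ : ℤ) : ℂ) = ((-1 : ℤ) : ℂ) := by
    push_cast; rw [← hz₁, ← hz₂, hb_def, Pi.sub_apply, deg]; ring
  have e2 : ((z₁ + z₃ : ℤ) : ℂ) = ((-1 : ℤ) : ℂ) := by
    push_cast; rw [← hz₁, ← hz₃, Pi.sub_apply, deg]; ring
  have e3 : ((z₂ + z₃ : ℤ) : ℂ) = ((-1 : ℤ) : ℂ) := by
    push_cast
    rw [← hz₂, ← hz₃, ← he', Pi.sub_apply, deg]; ring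
  have f1 : z₁ + z₂ = -1 := by exact_mod_cast e1
  have f2 : z₁ + z₃ = -1 := by exact_mod_cast e2
  have f3 : z₂ + z₃ = -1 := by exact_mod_cast e3
  omega

end Common

end Cfsg.Agent.Lib.TwoPrime82
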