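import Cfsg.Agent.Lib.TwoPrime82.Proj
import Cfsg.Agent.Lib.TwoPrime82.Dual
import Cfsg.Agent.Lib.Induced.Character
import Cfsg.Agent.Lib.RelGlauberman.Basic
import Cfsg.Agent.Lib.Blocks.LocalRing
import Cfsg.Agent.S0942
import Cfsg.Agent.S0947

/-!
# Two-prime simple groups: a non-principal character of odd degree prime to `r`

The functions induced from `1 - λ` on `C(R)` give exceptional characters; the averages of the characters
over the cosets of the kernel of the projection are determined, and the principal `r`-block detects them.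
-/

set_option autoImplicit false
set_option linter.unusedSectionVars false
set_option linter.style.haveILetI false
set_option maxHeartbeats 1000000

namespace Cfsg.Agent.Lib.TwoPrime82

open Subgroup
open scoped ComplexConjugate
open Cfsg.Agent.Lib.Isometry.Inner
open Cfsg.Agent.Lib.Induced.Basic (classInner_add_left classInner_add_right classInner_sub_left
  classInner_sub_right classInner_smul_left classInner_smul_right classInner_conj_symm)
open Cfsg.Agent.Lib.Characters.Basic (oneChar oneChar_apply)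

universe u

variable {T : Type u} [Group T] [Fintype T] {r : ℕ} [Fact r.Prime] {R : Sylow r T} {w : T} {a : ℕ}
  {f : centralizer ((R : Subgroup T) : Set T) →* (R : Subgroup T)}

local notation "Cn" => centralizer ((R : Subgroup T) : Set T)

/-- The function induced from `1 - ν ∘ f`. -/
noncomputable def gam (f : centralizer ((R : Subgroup T) : Set T) →* (R : Subgroup T))
    (ν : (R : Subgroup T) →* ℂˣ) : T → ℂ :=
  Cfsg.indFun (centralizer ((R : Subgroup T) : Set T))
    (fun c => lin 1 (f c) - lin ν (f c))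

/-- The average of a function over the coset of the kernel of `f` at `x`. -/
noncomputable def avg (f : centralizer ((R : Subgroup T) : Set T) →* (R : Subgroup T))
    [Fintype f.ker] (x : T) (φ : T → ℂ) : ℂ :=
  (Nat.card f.ker : ℂ)⁻¹ * ∑ k : f.ker, φ (x * ((k : Cn) : T))

namespace Proj

variable (P : Proj R w a f)
include P

theorem abelian : IsMulCommutative (R : Subgroup T) := P.setting.abelian

theorem self_le : (R : Subgroup T) ≤ Cn := le_cen_self R P.abelian

theorem surj : Function.Surjective f := fun x =>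
  ⟨⟨x, P.self_le x.2⟩, Subtype.ext (P.fix ⟨x, P.self_le x.2⟩ x.2)⟩

theorem mem_of_pow {y : T} (hy : y ∈ Cn) {k : ℕ} (hk : orderOf y = r ^ k) :
    y ∈ (R : Subgroup T) := by
  have h := IsPGroup.inf_normalizer_sylow (SylowNumbers.Basic.isPGroup_zpowers hk) R
  exact (h.le ⟨mem_zpowers y, centralizer_le_normalizer _ hy⟩).2

theorem order_r (x : (R : Subgroup T)) : ∃ k, orderOf (x : T) = r ^ k := by
  obtain ⟨k, hk⟩ := IsPGroup.iff_orderOf.mp R.isPGroup' x
  exact ⟨k, by rw [orderOf_coe]; exact hk⟩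

/-- The projection of a conjugate. -/
theorem f_conj {g : T} (c : Cn)
    (hm : g⁻¹ * (c : T) * g ∈ Cn) : (f ⟨_, hm⟩ : T) = g⁻¹ * (f c : T) * g := by
  have e : (f ⟨_, hm⟩ : T) = (g⁻¹ * (c : T) * g) ^ a := P.pow _
  rw [e, P.pow c]
  have := conj_pow (i := a) (a := g⁻¹) (b := (c : T))
  rwa [inv_inv] at this

theorem mem_normalizer_of_meet {g : T} (c : Cn) (hc : f c ≠ 1) (hg : g⁻¹ * (c : T) * g ∈ Cn) :
    g ∈ normalizer ((R : Subgroup T) : Set T) := by
  set x : T := (f c : T) with hx
  set y : T := g⁻¹ * x * g with hy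
  have hy' : y = (g⁻¹ * (c : T) * g) ^ a := by
    have := conj_pow (i := a) (a := g⁻¹) (b := (c : T))
    rw [inv_inv] at this
    rw [this, hy, hx, P.pow c]
  obtain ⟨k, hk⟩ := P.order_r (f c)
  have hyC : y ∈ Cn := hy' ▸ pow_mem hg a
  have hyo : orderOf y = r ^ k := by
    rw [← hk, ← hx, hy]
    have := MulEquiv.orderOf_eq (MulAut.conj g⁻¹) x
    simpa using this
  have hyR := P.mem_of_pow hyC hyo
  have hx1 : x ≠ 1 := fun e => hc (Subtype.ext e)
  have hy1 : y ≠ 1 := fun e => hx1 (by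
    calc x = g * y * g⁻¹ := by rw [hy]; group
      _ = 1 := by rw [e]; group)
  have hinv : g⁻¹ ∈ normalizer ((R : Subgroup T) : Set T) := by
    refine Isometry.TI.mem_normalizer_of_mapsTo fun b hb => ?_
    rw [inv_inv]
    have hb' : g⁻¹ * b * g ∈ centralizer ({y} : Set T) := by
      have h1 : x * b = b * x := by
        exact congrArg Subtype.val (P.abelian.is_comm.comm (f c) ⟨b, hb⟩)
      rw [mem_centralizer_singleton_iff, hy]
      calc g⁻¹ * b * g * (g⁻¹ * x * g) = g⁻¹ * (b * x) * g := by group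
        _ = g⁻¹ * (x * b) * g := by rw [h1]
        _ = g⁻¹ * x * g * (g⁻¹ * b * g) := by group
    rw [P.cen y hyR hy1] at hb'
    obtain ⟨i, hi⟩ := P.order_r ⟨b, hb⟩
    refine P.mem_of_pow hb' (k := i) ?_
    rw [← hi]
    have := MulEquiv.orderOf_eq (MulAut.conj g⁻¹) b
    simpa using this
  exact inv_mem_iff.1 hinv

open scoped Classical in
theorem card_outside :
    (Finset.univ.filter fun g : T => g ∈ normalizer ((R : Subgroup T) : Set T) ∧ g ∉ Cn).card =
      Nat.card Cn := by
  classical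
  rw [← Nat.card_eq_finsetCard]
  refine Nat.card_congr
    { toFun := fun g => ⟨w⁻¹ * g.1, P.coset _ (Finset.mem_filter.1 g.2).2.1
        (Finset.mem_filter.1 g.2).2.2⟩
      invFun := fun c => ⟨w * c.1, Finset.mem_filter.2 ⟨Finset.mem_univ _,
        mul_mem P.w_mem (centralizer_le_normalizer _ c.2), fun h => P.w_not ?_⟩⟩
      left_inv := fun g => Subtype.ext (mul_inv_cancel_left _ _)
      right_inv := fun c => Subtype.ext (inv_mul_cancel_left _ _) }
  simpa using mul_mem h (inv_mem c.2)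

theorem gam_apply (ν : (R : Subgroup T) →* ℂˣ) (c : Cn) (hc : f c ≠ 1) :
    gam f ν (c : T) = 2 - theta ν (f c) := by
  classical
  have key : ∀ g : T, Cfsg.extendByZero (Cn) (fun c => lin 1 (f c) - lin ν (f c)) (g⁻¹ * c * g) =
      (if g ∈ (Cn) then 1 - (ν (f c) : ℂ) else 0) +
        (if g ∈ normalizer ((R : Subgroup T) : Set T) ∧ g ∉ (Cn) then 1 - (ν⁻¹ (f c) : ℂ) else 0) := by
    intro g
    by_cases hgN : g ∈ normalizer ((R : Subgroup T) : Set T)
    · have hgC : g⁻¹ * (c : T) * g ∈ (Cn) := by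
        rw [mem_centralizer_iff]
        intro b hb
        have hb' : g * b * g⁻¹ ∈ (R : Subgroup T) := (mem_normalizer_iff.1 hgN b).1 hb
        have h1 := mem_centralizer_iff.1 c.2 _ hb'
        calc b * (g⁻¹ * c * g) = g⁻¹ * (g * b * g⁻¹ * c) * g := by group
          _ = g⁻¹ * (c * (g * b * g⁻¹)) * g := by rw [h1]
          _ = _ := by group
      rw [Induced.Basic.extendByZero_of_mem (Cn) _ hgC]
      by_cases hg : g ∈ (Cn)
      · have e : f ⟨_, hgC⟩ = f c := Subtype.ext (by
          rw [P.f_conj c hgC]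
          calc g⁻¹ * (f c : T) * g = g⁻¹ * ((f c : T) * g) := by group
            _ = g⁻¹ * (g * (f c : T)) := by rw [mem_centralizer_iff.1 hg _ (f c).2]
            _ = (f c : T) := by group)
        rw [if_pos hg, if_neg (fun h => h.2 hg), add_zero, e]
        simp [lin]
      · have e : f ⟨_, hgC⟩ = (f c)⁻¹ := Subtype.ext (by
          rw [P.f_conj c hgC, coe_inv]
          obtain ⟨d, hd, rfl⟩ : ∃ d ∈ (Cn), g = w * d := ⟨w⁻¹ * g, P.coset g hgN hg, by group⟩
          have h1 : w⁻¹ * (f c : T) * w = (f c : T)⁻¹ := by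
            have h2 := P.inv _ (inv_mem (f c).2)
            rw [inv_inv] at h2
            calc w⁻¹ * (f c : T) * w = w⁻¹ * (w * (f c : T)⁻¹ * w⁻¹) * w := by rw [h2]
              _ = (f c : T)⁻¹ := by group
          calc (w * d)⁻¹ * (f c : T) * (w * d) = d⁻¹ * (w⁻¹ * (f c : T) * w * d) := by group
            _ = d⁻¹ * (d * (f c : T)⁻¹) := by
                rw [h1, mem_centralizer_iff.1 hd _ (inv_mem (f c).2)]
            _ = (f c : T)⁻¹ := by group)
        rw [if_neg hg, if_pos ⟨hgN, hg⟩, zero_add, e]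
        simp [lin]
    · rw [if_neg (fun h => hgN (centralizer_le_normalizer _ h)), if_neg (fun h => hgN h.1),
        add_zero, Induced.Basic.extendByZero_of_not_mem]
      exact fun h => hgN (P.mem_normalizer_of_meet c hc h)
  simp only [gam, Cfsg.indFun, key, Finset.sum_add_distrib]
  rw [← Finset.sum_filter, ← Finset.sum_filter, Finset.sum_const, Finset.sum_const,
    P.card_outside,
    show (Finset.univ.filter fun g : T => g ∈ Cn).card = Nat.card Cn by
      rw [Nat.card_eq_fintype_card, Fintype.card_subtype],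
    ← smul_add, nsmul_eq_mul,
    ← mul_assoc, inv_mul_cancel₀ (Induced.Basic.subgroup_card_ne_zero (Cn)), one_mul, theta]
  ring

theorem gam_gen (ν : (R : Subgroup T) →* ℂˣ) : Cfsg.IsGeneralizedCharacter T (gam f ν) := by
  refine Induced.Character.isGeneralizedCharacter_indFun _ ⟨_, _, ?_, ?_, rfl⟩
  · exact Induced.Character.isCharacter_hom ((1 : (R : Subgroup T) →* ℂˣ).comp f)
  · exact Induced.Character.isCharacter_hom (ν.comp f)

theorem inner_gam [Fintype (R : Subgroup T)] [DecidableEq ((R : Subgroup T) →* ℂˣ)]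
    {μ ν : (R : Subgroup T) →* ℂˣ} (hμ : μ ≠ 1) (hν : ν ≠ 1) :
    Cfsg.classInner (gam f μ) (gam f ν) =
      2 + (if μ = ν then 1 else 0) + (if μ = ν⁻¹ then 1 else 0) := by
  classical
  have := Fintype.ofFinite Cn
  rw [gam, Induced.Basic.frobenius_reciprocity _ _ (gen_classFun (P.gam_gen ν))]
  have e : Cfsg.classInner (fun c : Cn => lin 1 (f c) - lin μ (f c))
      (fun c : Cn => gam f ν (c : T)) =
      Cfsg.classInner ((lin 1 - lin μ) ∘ f)
        ((lin 1 + lin 1 - lin ν - lin ν⁻¹) ∘ f) := by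
    simp only [Cfsg.classInner]
    congr 1
    refine Finset.sum_congr rfl fun c _ => ?_
    by_cases hc : f c = 1
    · simp [hc, lin]
    · simp only [Function.comp_apply, Pi.sub_apply, Pi.add_apply, P.gam_apply ν c hc]
      congr 2
      simp [lin, theta]
      ring
  refine e.trans ?_
  rw [RelGlauberman.classInner_comp_surjective P.surj]
  simp only [classInner_sub_left, classInner_sub_right, classInner_add_right, inner_lin, hμ,
    if_true, if_false]
  have h1 : (1 : (R : Subgroup T) →* ℂˣ) ≠ ν⁻¹ := fun h => hν (by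
    rw [← inv_inv_hom ν, ← h]; ext y; simp)
  simp only [h1, hν.symm, if_false]
  ring

theorem inner_gam_one [Fintype (R : Subgroup T)] {ν : (R : Subgroup T) →* ℂˣ} (hν : ν ≠ 1) :
    Cfsg.classInner (gam f ν) (oneChar T : T → ℂ) = 1 := by
  classical
  have := Fintype.ofFinite Cn
  rw [gam, Induced.Basic.frobenius_reciprocity _ _
    (Characters.Basic.isClassFunction_irr (oneChar T))]
  have e : (fun h : Cn => (oneChar T : T → ℂ) h) = (lin 1) ∘ f := by
    funext h; simp [lin, oneChar_apply]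
  rw [e]
  refine (RelGlauberman.classInner_comp_surjective P.surj (lin 1 - lin ν) (lin 1)).trans ?_
  simp [classInner_sub_left, inner_lin, hν]

theorem gam_one (ν : (R : Subgroup T) →* ℂˣ) : gam f ν 1 = 0 := by
  rw [gam, Induced.Basic.indFun_one]
  simp [lin]

theorem cen_coe {x : (R : Subgroup T)} (hx : x ≠ 1) :
    centralizer ({(x : T)} : Set T) = Cn := P.cen x x.2 fun e => hx (Subtype.ext e)

theorem f_mul_ker (x : (R : Subgroup T)) (k : f.ker) :
    f (⟨x, P.self_le x.2⟩ * (k : Cn)) = x := by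
  rw [map_mul, MonoidHom.mem_ker.1 k.2, mul_one]
  exact Subtype.ext (P.fix ⟨x, P.self_le x.2⟩ x.2)

theorem coe_mul_ker (x : (R : Subgroup T)) (k : f.ker) :
    ((⟨x, P.self_le x.2⟩ * (k : Cn) : Cn) : T) = (x : T) * ((k : Cn) : T) := rfl

/-- Column orthogonality for the averages. -/
theorem sum_avg_sq [Fintype (R : Subgroup T)] [Fintype f.ker] [Fintype (Cfsg.IrrCharacter T)]
    {x : (R : Subgroup T)} (hx : x ≠ 1) :
    ∑ χ : Cfsg.IrrCharacter T, avg f x (χ : T → ℂ) * conj (avg f x (χ : T → ℂ)) =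
      Nat.card (R : Subgroup T) := by
  classical
  have hinner : ∀ k : f.ker, ∑ k' : f.ker, ∑ χ : Cfsg.IrrCharacter T,
      (χ : T → ℂ) ((x : T) * ((k : Cn) : T)) * conj ((χ : T → ℂ) ((x : T) * ((k' : Cn) : T))) =
      Nat.card Cn := by
    intro k
    set d : Cn := ⟨x, P.self_le x.2⟩ * (k : Cn) with hd
    have hfd : f d = x := P.f_mul_ker x k
    have hdT : (d : T) = (x : T) * ((k : Cn) : T) := rfl
    have hle : centralizer ({(d : T)} : Set T) ≤ Cn := by
      refine le_of_le_of_eq ?_ (P.cen_coe hx)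
      intro g hg
      rw [mem_centralizer_singleton_iff] at hg ⊢
      have : (x : T) = (d : T) ^ a := by rw [← P.pow d, hfd]
      rw [this]
      exact ((show Commute g (d : T) from hg).pow_right a).eq
    simp only [Characters.Complete.sum_irr_mul_conj]
    have hcard : (Finset.univ.filter fun k' : f.ker =>
        IsConj (d : T) ((x : T) * ((k' : Cn) : T))).card =
        (centralizer ({d} : Set Cn)).index := by
      rw [← Induced.Integral.nat_card_carrier, ← Nat.card_eq_finsetCard]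
      refine Nat.card_congr (Equiv.ofBijective (fun k' => ⟨⟨x, P.self_le x.2⟩ * (k'.1 : Cn), ?_⟩)
        ⟨fun k₁ k₂ e => ?_, fun e => ?_⟩)
      · rw [ConjClasses.mem_carrier_iff_mk_eq, ConjClasses.mk_eq_mk_iff_isConj, isConj_comm,
          isConj_iff]
        obtain ⟨g, hg⟩ := isConj_iff.1 (Finset.mem_filter.1 k'.2).2
        have h1 : g * (x : T) * g⁻¹ = x := by
          have h2 := congrArg (· ^ a) hg
          simp only [conj_pow] at h2
          rw [← P.pow d, hfd] at h2
          rw [h2, ← P.coe_mul_ker, ← P.pow, P.f_mul_ker]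
        have hgC : g ∈ Cn := by
          rw [← P.cen_coe hx, mem_centralizer_singleton_iff]
          exact mul_inv_eq_iff_eq_mul.1 h1
        exact ⟨⟨g, hgC⟩, Subtype.ext hg⟩
      · exact Subtype.ext (Subtype.ext (mul_left_cancel (congrArg Subtype.val e)))
      · obtain ⟨e, he⟩ := e
        rw [ConjClasses.mem_carrier_iff_mk_eq, ConjClasses.mk_eq_mk_iff_isConj, isConj_comm,
          isConj_iff] at he
        obtain ⟨g, hg⟩ := he
        have hk : (⟨x, P.self_le x.2⟩ : Cn)⁻¹ * e ∈ f.ker := by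
          haveI := P.abelian
          rw [MonoidHom.mem_ker, map_mul, map_inv, inv_mul_eq_one, ← hg, map_mul, map_mul,
            map_inv, hfd]
          rw [show f ⟨x, P.self_le x.2⟩ = x from Subtype.ext (P.fix _ x.2),
            P.abelian.is_comm.comm (f g) x, mul_inv_cancel_right]
        refine ⟨⟨⟨_, hk⟩, Finset.mem_filter.2 ⟨Finset.mem_univ _, ?_⟩⟩,
          Subtype.ext (mul_inv_cancel_left _ _)⟩
        rw [isConj_iff]
        refine ⟨g, ?_⟩
        show _ = ((⟨x, P.self_le x.2⟩ * ((⟨x, P.self_le x.2⟩ : Cn)⁻¹ * e) : Cn) : T)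
        rw [mul_inv_cancel_left, ← hg]
        rfl
    rw [← hdT]
    trans ∑ k' ∈ Finset.univ.filter (fun k' : f.ker => IsConj (d : T) ((x : T) * ((k' : Cn) : T))),
      (Nat.card (centralizer ({(d : T)} : Set T)) : ℂ)
    · rw [Finset.sum_filter]
      exact Finset.sum_congr rfl fun k' _ => by split_ifs <;> rfl
    rw [Finset.sum_const, nsmul_eq_mul, hcard, ← Nat.cast_mul]
    congr 1
    have he : Nat.card (centralizer ({d} : Set Cn)) =
        Nat.card (centralizer ({(d : T)} : Set T)) := by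
      rw [cen_sub]
      exact Nat.card_congr (subgroupOfEquivOfLe hle).toEquiv
    rw [← he, mul_comm, card_mul_index]
  simp only [avg, map_mul, map_inv₀, map_natCast, map_sum]
  have e : ∀ χ : Cfsg.IrrCharacter T,
      (Nat.card f.ker : ℂ)⁻¹ * (∑ k : f.ker, (χ : T → ℂ) ((x : T) * ((k : Cn) : T))) *
        ((Nat.card f.ker : ℂ)⁻¹ *
          ∑ k : f.ker, conj ((χ : T → ℂ) ((x : T) * ((k : Cn) : T)))) =
      ((Nat.card f.ker : ℂ)⁻¹ * (Nat.card f.ker : ℂ)⁻¹) * ∑ k : f.ker, ∑ k' : f.ker,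
        (χ : T → ℂ) ((x : T) * ((k : Cn) : T)) * conj ((χ : T → ℂ) ((x : T) * ((k' : Cn) : T))) := by
    intro χ; rw [← Finset.sum_mul_sum]; ring
  rw [Finset.sum_congr rfl fun χ _ => e χ, ← Finset.mul_sum, Finset.sum_comm]
  have e2 : ∀ k : f.ker, ∑ χ : Cfsg.IrrCharacter T, ∑ k' : f.ker,
      (χ : T → ℂ) ((x : T) * ((k : Cn) : T)) * conj ((χ : T → ℂ) ((x : T) * ((k' : Cn) : T))) =
      (Nat.card Cn : ℂ) := fun k => Finset.sum_comm.trans (hinner k)
  rw [Finset.sum_congr rfl fun k _ => e2 k, Finset.sum_const, Finset.card_univ, nsmul_eq_mul,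
    ← Nat.card_eq_fintype_card]
  have hC : Nat.card Cn = Nat.card f.ker * Nat.card (R : Subgroup T) := by
    rw [← f.ker.card_mul_index, Subgroup.index_ker, MonoidHom.range_eq_top.2 P.surj, card_top]
  have h0 : (Nat.card f.ker : ℂ) ≠ 0 := Nat.cast_ne_zero.2 Nat.card_pos.ne'
  rw [hC, Nat.cast_mul]
  field_simp

theorem ker_card : ¬ r ∣ Nat.card f.ker := fun hd => by
  obtain ⟨k, hk⟩ := exists_prime_orderOf_dvd_card' r hd
  exact P.ker _ (MonoidHom.mem_ker.1 k.2) (by rw [orderOf_coe, hk])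

/-- The principal block: constancy on the cosets and the sum of squares. -/
theorem block [Fintype (R : Subgroup T)] [Fintype f.ker] {M : Ideal Cfsg.AlgInt}
    (hM : Cfsg.IsPModular r M) {x : (R : Subgroup T)} (hx : x ≠ 1) :
    (∀ χ ∈ Cfsg.principalBlock M T, avg f x (χ : T → ℂ) = (χ : T → ℂ) x) ∧
    ∑ᶠ ζ ∈ Cfsg.principalBlock M T, ‖(ζ : T → ℂ) x‖ ^ 2 = (Nat.card (R : Subgroup T) : ℝ) := by
  classical
  obtain ⟨i, hi⟩ := P.order_r x
  have hcop : (Nat.card f.ker).Coprime r :=
    (((Fact.out : r.Prime).coprime_iff_not_dvd).2 P.ker_card).symm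
  have hcore : f.ker ≤ Cfsg.pPrimeCore r Cn := le_sSup ⟨f.normal_ker, hcop⟩
  refine ⟨fun χ hχ => ?_, ?_⟩
  · have e : ∀ k : f.ker, (χ : T → ℂ) ((x : T) * ((k : Cn) : T)) = (χ : T → ℂ) x := by
      intro k
      refine S0942.result r M hM (x : T) ⟨i, hi⟩ _ ?_ χ hχ
      rw [Cfsg.centralizerPPrimeCore, P.cen_coe hx]
      exact ⟨(k : Cn), hcore k.2, rfl⟩
    simp only [avg, e, Finset.sum_const, Finset.card_univ, nsmul_eq_mul, Fintype.card_eq_nat_card]
    rw [← mul_assoc, inv_mul_cancel₀ (Nat.cast_ne_zero.2 Nat.card_pos.ne'), one_mul]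
  · have h1 : (⟨1, one_mem _⟩ : centralizer ({(x : T)} : Set T)) = 1 := rfl
    have hidx : ∃ k : ℕ, (Cfsg.pPrimeCore r Cn).index = r ^ k := by
      obtain ⟨j, hj⟩ := IsPGroup.iff_card.mp R.isPGroup'
      have hd : (Cfsg.pPrimeCore r Cn).index ∣ r ^ j := by
        refine (index_dvd_of_le hcore).trans (dvd_of_eq ?_)
        rw [Subgroup.index_ker, MonoidHom.range_eq_top.2 P.surj, card_top, hj]
      obtain ⟨k, -, hk⟩ := (Nat.dvd_prime_pow Fact.out).1 hd
      exact ⟨k, hk⟩
    have h := (S0947.result r M hM (x : T) ⟨i, hi⟩ (fun e => hx (Subtype.ext e)) 1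
      (by rw [orderOf_one]; exact (Fact.out : r.Prime).not_dvd_one)).2 (by
        rw [P.cen_coe hx]; exact hidx)
    simp only [OneMemClass.coe_one, mul_one] at h
    rw [h]
    congr 1
    rw [P.cen_coe hx, ← f.ker.card_mul_index, Subgroup.index_ker,
      MonoidHom.range_eq_top.2 P.surj, card_top,
      Nat.factorization_mul Nat.card_pos.ne' Nat.card_pos.ne', Finsupp.add_apply,
      Nat.factorization_eq_zero_of_not_dvd P.ker_card, zero_add]
    obtain ⟨j, hj⟩ := IsPGroup.iff_card.mp R.isPGroup'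
    rw [hj, Nat.Prime.factorization_pow Fact.out, Finsupp.single_eq_same]

theorem exists_char : ∃ χ : Cfsg.IrrCharacter T, χ ≠ oneChar T ∧
    ∃ d : ℕ, (χ : T → ℂ) 1 = d ∧ Odd d ∧ ¬ r ∣ d := by
  classical
  haveI := Fintype.ofFinite (R : Subgroup T)
  haveI := Fintype.ofFinite f.ker
  haveI := Fintype.ofFinite (Cfsg.IrrCharacter T)
  haveI := Fintype.ofFinite ((R : Subgroup T) →* ℂˣ)
  haveI := Fintype.ofFinite {ν : (R : Subgroup T) →* ℂˣ // ν ≠ 1}
  haveI := Fact.mk (Fact.out : r.Prime)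
  have hRne : (R : Subgroup T) ≠ ⊥ :=
    R.ne_bot_of_dvd_card (Nat.dvd_of_mem_primeFactors P.setting.mem)
  obtain ⟨x₀, hx₀⟩ : ∃ x : (R : Subgroup T), x ≠ 1 := by
    haveI := (Subgroup.nontrivial_iff_ne_bot _).2 hRne
    exact exists_ne 1
  have hsq : ∀ x : (R : Subgroup T), x ≠ 1 → x * x ≠ 1 := fun x hx e =>
    sq_ne_one_of_odd R P.setting.odd x.2 (fun e' => hx (Subtype.ext e'))
      (congrArg Subtype.val e)
  have hinv1 : ∀ ν : {ν : (R : Subgroup T) →* ℂˣ // ν ≠ 1}, ν.1⁻¹ ≠ 1 := fun ν e => ν.2 (by rw [← inv_inv_hom ν.1, e]; ext y; simp)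
  let inv : {ν : (R : Subgroup T) →* ℂˣ // ν ≠ 1} → {ν : (R : Subgroup T) →* ℂˣ // ν ≠ 1} := fun ν => ⟨ν.1⁻¹, hinv1 ν⟩
  haveI : Nonempty {ν : (R : Subgroup T) →* ℂˣ // ν ≠ 1} := by
    by_contra hne
    rw [not_nonempty_iff] at hne
    have h := sum_theta P.abelian hx₀
    rw [Finset.univ_eq_empty, Finset.sum_empty] at h
    norm_num at h
  let D : {ν : (R : Subgroup T) →* ℂˣ // ν ≠ 1} → T → ℂ := fun ν => gam f ν.1 - (oneChar T : T → ℂ)
  have gen : ∀ i, Cfsg.IsGeneralizedCharacter T (D i) :=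
    fun i => gen_sub (P.gam_gen i.1) (gen_of_irr (oneChar T).2)
  have deg : ∀ i, D i 1 = -1 := fun i => by
    simp [D, P.gam_one, oneChar_apply]
  have hD1 : ∀ i, Cfsg.classInner (D i) (oneChar T : T → ℂ) = 0 := fun i => by
    rw [classInner_sub_left, P.inner_gam_one i.2, Characters.Basic.classInner_self_irr, sub_self]
  have inner : ∀ i j, Cfsg.classInner (D i) (D j) =
      1 + (if i = j then 1 else 0) + (if i = inv j then 1 else 0) := by
    intro i j
    rw [classInner_sub_left, classInner_sub_right, classInner_sub_right, P.inner_gam i.2 j.2,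
      P.inner_gam_one i.2,
      classInner_gen_comm (gen_of_irr (oneChar T).2) (P.gam_gen j.1), P.inner_gam_one j.2,
      Characters.Basic.classInner_self_irr]
    rw [if_congr (show i = j ↔ i.1 = j.1 from Subtype.ext_iff) rfl rfl,
      if_congr (show i = inv j ↔ i.1 = j.1⁻¹ from Subtype.ext_iff) rfl rfl]
    ring
  have hne : ∀ i, inv i ≠ i := by
    intro i e
    apply i.2
    refine MonoidHom.ext fun x => ?_
    have e' : (i.1 x)⁻¹ = i.1 x := congrArg (fun ν : {ν : (R : Subgroup T) →* ℂˣ // ν ≠ 1} => ν.1 x) e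
    have h2 : (i.1 x) ^ 2 = 1 := by
      rw [pow_two]; nth_rewrite 1 [← e']; exact inv_mul_cancel _
    obtain ⟨k, hk⟩ := IsPGroup.iff_orderOf.mp R.isPGroup' x
    have h3 : (i.1 x) ^ r ^ k = 1 := by rw [← map_pow, ← hk, pow_orderOf_eq_one, map_one]
    have h4 : Nat.gcd 2 (r ^ k) = 1 :=
      ((Nat.coprime_primes Nat.prime_two Fact.out).2 (Ne.symm P.setting.odd)).pow_right k
    rw [MonoidHom.one_apply, ← pow_one (i.1 x), ← h4, pow_gcd_eq_one]
    exact ⟨h2, h3⟩
  obtain ⟨U, hU, hUD⟩ := exists_common D inv (fun i => Subtype.ext (inv_inv_hom i.1)) hne gen deg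
    inner
  obtain ⟨χ, ε, hε, hUχ⟩ : ∃ (χ : Cfsg.IrrCharacter T) (ε : ℤ),
      (ε = 1 ∨ ε = -1) ∧ U = (ε : ℂ) • (χ : T → ℂ) := by
    rcases hU with hU | hU
    · exact ⟨⟨U, hU⟩, 1, Or.inl rfl, by simp⟩
    · exact ⟨⟨-U, hU⟩, -1, Or.inr rfl, by simp⟩
  have hDχ : ∀ i, Cfsg.classInner (D i) (χ : T → ℂ) = ε := fun i => by
    have h := hUD i
    rw [hUχ, classInner_smul_right, map_intCast] at h
    rcases hε with rfl | rfl <;> push_cast at h ⊢
    · linear_combination h
    · linear_combination -h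
  have hχ1 : χ ≠ oneChar T := by
    intro e
    obtain ⟨i⟩ := ‹Nonempty {ν : (R : Subgroup T) →* ℂˣ // ν ≠ 1}›
    have h := hDχ i
    rw [e, hD1] at h
    rcases hε with rfl | rfl <;> norm_num at h
  -- the averages are the coefficients of `Φ`
  obtain ⟨M, hM⟩ := Blocks.exists_isPModular r Fact.out
  have hval : ∀ x : (R : Subgroup T), x ≠ 1 → (χ : T → ℂ) x = ε := by
    intro x hx
    let Φ : T → ℂ := (oneChar T : T → ℂ) - (1 / 2 : ℂ) • ∑ i : {ν : (R : Subgroup T) →* ℂˣ // ν ≠ 1}, theta i.1 x • D i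
    have hΦc : Cfsg.IsClassFunction T Φ := fun g h => by
      simp only [Φ, Pi.sub_apply, Pi.smul_apply, Finset.sum_apply]
      rw [Characters.Basic.isClassFunction_irr (oneChar T) g h,
        Finset.sum_congr rfl fun i _ => by rw [gen_classFun (gen i) g h]]
    set n : Cfsg.IrrCharacter T → ℂ := fun ψ => Cfsg.classInner Φ (ψ : T → ℂ) with hn
    have hnΦ : ∀ ψ : T → ℂ, Cfsg.classInner Φ ψ = Cfsg.classInner (oneChar T : T → ℂ) ψ -
        (1 / 2 : ℂ) * ∑ i : {ν : (R : Subgroup T) →* ℂˣ // ν ≠ 1}, theta i.1 x * Cfsg.classInner (D i) ψ := by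
      intro ψ
      simp only [Φ, classInner_sub_left, classInner_smul_left,
        Characters.Basic.classInner_sum_left]
    have hreal : ∀ ψ, conj (n ψ) = n ψ := by
      intro ψ
      obtain ⟨z, hz⟩ := classInner_gen_int (gen_of_irr (oneChar T).2) (gen_of_irr ψ.2)
      choose c hc using fun i => classInner_gen_int (gen i) (gen_of_irr ψ.2)
      simp only [hn, hnΦ, hz, hc, map_sub, map_mul, map_sum, map_intCast, conj_theta]
      rw [map_div₀, map_one, map_ofNat]
    have hst := sum_theta (R := (R : Subgroup T)) P.abelian hx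
    have hst2 := sum_theta_sq (R := (R : Subgroup T)) P.abelian (hsq x hx)
    have hΦΦ : Cfsg.classInner Φ Φ = Fintype.card (R : Subgroup T) := by
      have hDΦ : ∀ i : {ν : (R : Subgroup T) →* ℂˣ // ν ≠ 1}, Cfsg.classInner (D i) Φ = 1 - theta i.1 x := by
        intro i
        simp only [Φ, classInner_sub_right, classInner_smul_right,
          Characters.Basic.classInner_sum_right, hD1, conj_theta, inner]
        simp only [mul_add, mul_ite, mul_one, mul_zero, Finset.sum_add_distrib,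
          Finset.sum_ite_eq, Finset.mem_univ, if_true, hst]
        have e : (∑ j : {ν : (R : Subgroup T) →* ℂˣ // ν ≠ 1}, if i = inv j then theta j.1 x else 0) = theta i.1 x := by
          rw [Finset.sum_eq_single (inv i)]
          · rw [if_pos (show i = inv (inv i) from Subtype.ext (inv_inv_hom i.1).symm)]; exact theta_inv _ _
          · intro j _ hj; rw [if_neg]; intro e; exact hj (by rw [e]; exact Subtype.ext (inv_inv_hom j.1).symm)
          · exact fun h => absurd (Finset.mem_univ _) h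
        rw [e, map_div₀, map_one, map_ofNat]
        ring
      have h1Φ : Cfsg.classInner (oneChar T : T → ℂ) Φ = 1 := by
        simp only [Φ, classInner_sub_right, classInner_smul_right,
          Characters.Basic.classInner_sum_right, Characters.Basic.classInner_self_irr]
        rw [Finset.sum_eq_zero fun i _ => by
          rw [classInner_gen_comm (gen_of_irr (oneChar T).2) (gen i), hD1, mul_zero]]
        simp
      rw [hnΦ, h1Φ]
      simp only [hDΦ, mul_sub, mul_one, Finset.sum_sub_distrib, hst, hst2]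
      ring
    have hexp : Φ = ∑ ψ : Cfsg.IrrCharacter T, n ψ • (ψ : T → ℂ) :=
      Characters.Complete.classFunction_eq_sum hΦc
    have hnn : ∑ ψ, n ψ * n ψ = Fintype.card (R : Subgroup T) := by
      rw [← hΦΦ]
      nth_rewrite 2 [hexp]
      rw [Characters.Basic.classInner_sum_right]
      exact Finset.sum_congr rfl fun ψ _ => by rw [classInner_smul_right, hreal]
    have havg1 : avg f x (oneChar T : T → ℂ) = 1 := by
      simp only [avg, oneChar_apply, Finset.sum_const, Finset.card_univ, nsmul_eq_mul, mul_one,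
        ← Nat.card_eq_fintype_card]
      exact inv_mul_cancel₀ (Nat.cast_ne_zero.2 Nat.card_pos.ne')
    have havgD : ∀ i : {ν : (R : Subgroup T) →* ℂˣ // ν ≠ 1}, avg f x (D i) = 1 - theta i.1 x := by
      intro i
      have e : ∀ k : f.ker, D i ((x : T) * ((k : Cn) : T)) = 1 - theta i.1 x := by
        intro k
        have h := P.gam_apply i.1 (⟨x, P.self_le x.2⟩ * (k : Cn)) (by rw [P.f_mul_ker]; exact hx)
        rw [P.f_mul_ker, P.coe_mul_ker] at h
        simp only [D, Pi.sub_apply, h, oneChar_apply]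
        ring
      simp only [avg, e, Finset.sum_const, Finset.card_univ, nsmul_eq_mul,
        Fintype.card_eq_nat_card]
      rw [← mul_assoc, inv_mul_cancel₀ (Nat.cast_ne_zero.2 Nat.card_pos.ne'), one_mul]
    have hlin : ∀ (c : ℂ) (F G : T → ℂ), avg f x (F - c • G) = avg f x F - c * avg f x G := by
      intro c F G
      simp only [avg, Pi.sub_apply, Pi.smul_apply, smul_eq_mul, Finset.sum_sub_distrib,
        ← Finset.mul_sum]
      ring
    have hsum : ∀ {κ : Type u} (s : Finset κ) (c : κ → ℂ) (F : κ → T → ℂ),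
        avg f x (∑ i ∈ s, c i • F i) = ∑ i ∈ s, c i * avg f x (F i) := by
      intro κ s c F
      simp only [avg, Finset.sum_apply, Pi.smul_apply, smul_eq_mul, Finset.mul_sum]
      rw [Finset.sum_comm]
      exact Finset.sum_congr rfl fun i _ => Finset.sum_congr rfl fun k _ => by ring
    have havgΦ : avg f x Φ = Fintype.card (R : Subgroup T) := by
      rw [hlin, hsum, havg1]
      simp only [havgD, mul_sub, mul_one, Finset.sum_sub_distrib, hst, hst2]
      ring
    have hβn : ∑ ψ : Cfsg.IrrCharacter T, n ψ * avg f x (ψ : T → ℂ) = Fintype.card (R : Subgroup T) := by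
      rw [← havgΦ, congrArg (avg f (x : T)) hexp, hsum]
    have hββ := P.sum_avg_sq hx
    rw [← Fintype.card_eq_nat_card] at hββ
    have hzero : ∀ ψ : Cfsg.IrrCharacter T, avg f x (ψ : T → ℂ) = n ψ := by
      have h : ∑ ψ : Cfsg.IrrCharacter T, (avg f x (ψ : T → ℂ) - n ψ) * conj (avg f x (ψ : T → ℂ) - n ψ) = 0 := by
        have hβn' : ∑ ψ : Cfsg.IrrCharacter T, n ψ * conj (avg f x (ψ : T → ℂ)) = Fintype.card (R : Subgroup T) := by
          have := congrArg conj hβn
          simpa [map_sum, hreal] using this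
        simp only [map_sub, hreal, sub_mul, mul_sub, Finset.sum_sub_distrib]
        rw [hββ, hnn, hβn', Finset.sum_congr rfl fun ψ _ => mul_comm _ (n ψ), hβn]
        ring
      have h' : ∑ ψ : Cfsg.IrrCharacter T, ‖avg f x (ψ : T → ℂ) - n ψ‖ ^ 2 = 0 := by
        have e : ((∑ ψ : Cfsg.IrrCharacter T, ‖avg f x (ψ : T → ℂ) - n ψ‖ ^ 2 : ℝ) : ℂ) = ((0 : ℝ) : ℂ) := by
          push_cast
          rw [← h]
          exact Finset.sum_congr rfl fun ψ _ => by rw [Complex.mul_conj']
        exact_mod_cast e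
      intro ψ
      have := (Finset.sum_eq_zero_iff_of_nonneg fun ψ _ => by positivity).1 h' ψ (Finset.mem_univ _)
      exact sub_eq_zero.1 (by simpa using this)
    have havgχ : avg f x (χ : T → ℂ) = ε := by
      rw [hzero]
      simp only [hn, hnΦ, hDχ, ← Finset.sum_mul, hst]
      rw [Characters.Basic.classInner_irr_of_ne hχ1.symm]
      ring
    obtain ⟨hcong, hblk⟩ := P.block hM hx
    by_cases hB : χ ∈ Cfsg.principalBlock M T
    · rw [← hcong χ hB, havgχ]
    · exfalso
      set B := (Finset.univ : Finset (Cfsg.IrrCharacter T)).filter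
        (· ∈ Cfsg.principalBlock M T) with hBdef
      have e1 : ∑ ψ ∈ B, ‖avg f x (ψ : T → ℂ)‖ ^ 2 = (Fintype.card (R : Subgroup T) : ℝ) := by
        rw [Fintype.card_eq_nat_card, ← hblk, finsum_mem_eq_finite_toFinset_sum _ (Set.toFinite _)]
        refine Finset.sum_congr (by ext; simp [B]) fun ψ hψ => ?_
        rw [hcong ψ (Set.Finite.mem_toFinset _ |>.1 hψ)]
      have e2 : ∑ ψ : Cfsg.IrrCharacter T, ‖avg f x (ψ : T → ℂ)‖ ^ 2 = (Fintype.card (R : Subgroup T) : ℝ) := by
        have e : ((∑ ψ : Cfsg.IrrCharacter T, ‖avg f x (ψ : T → ℂ)‖ ^ 2 : ℝ) : ℂ) =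
            ((Fintype.card (R : Subgroup T) : ℝ) : ℂ) := by
          push_cast
          rw [← hββ]
          exact Finset.sum_congr rfl fun ψ _ => by rw [Complex.mul_conj']
        exact_mod_cast e
      have hsub : B ⊆ Finset.univ := Finset.subset_univ _
      have h3 := Finset.sum_sdiff (f := fun ψ : Cfsg.IrrCharacter T => ‖avg f x (ψ : T → ℂ)‖ ^ 2) hsub
      rw [e1, e2] at h3
      have h4 := (Finset.sum_eq_zero_iff_of_nonneg fun ψ _ => by positivity).1
        (show ∑ ψ ∈ Finset.univ \ B, ‖avg f x (ψ : T → ℂ)‖ ^ 2 = 0 by linarith) χ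
        (by simp [B, hB])
      rw [havgχ] at h4
      rcases hε with rfl | rfl <;> norm_num at h4
  -- congruence modulo the order of `R`
  obtain ⟨z, hz⟩ : ∃ z : ℤ, Cfsg.classInner (fun y : (R : Subgroup T) => (χ : T → ℂ) y)
      (fun _ => (1 : ℂ)) = z := by
    obtain ⟨m, hm⟩ := Characters.Basic.exists_classInner_nat
      (Characters.Basic.isCharacter_comp (R : Subgroup T).subtype (Characters.Basic.isCharacter_irr χ))
      (Characters.Basic.isCharacter_one (G := (R : Subgroup T)))
    exact ⟨m, by rw [Int.cast_natCast]; exact hm⟩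
  obtain ⟨d, -, hd⟩ := Characters.Basic.exists_degree_pos χ
  have hcong : (d : ℤ) + ((Fintype.card (R : Subgroup T) : ℤ) - 1) * ε =
      (Fintype.card (R : Subgroup T) : ℤ) * z := by
    have hs : ∑ y : (R : Subgroup T), (χ : T → ℂ) y =
        (d : ℂ) + ((Fintype.card (R : Subgroup T) : ℂ) - 1) * ε := by
      rw [← Finset.add_sum_erase _ _ (Finset.mem_univ (1 : (R : Subgroup T))),
        Finset.sum_congr rfl fun y hy => hval y (Finset.ne_of_mem_erase hy), Finset.sum_const,
        nsmul_eq_mul, Finset.card_erase_of_mem (Finset.mem_univ _), Finset.card_univ,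
        OneMemClass.coe_one, hd, Nat.cast_sub Fintype.card_pos]
      push_cast; ring
    have h0 : (Fintype.card (R : Subgroup T) : ℂ) ≠ 0 := Nat.cast_ne_zero.2 Fintype.card_pos.ne'
    rw [Cfsg.classInner] at hz
    simp only [map_one, mul_one, ← Fintype.card_eq_nat_card, hs] at hz
    have e : (((d : ℤ) + ((Fintype.card (R : Subgroup T) : ℤ) - 1) * ε : ℤ) : ℂ) =
        (((Fintype.card (R : Subgroup T) : ℤ) * z : ℤ) : ℂ) := by
      push_cast
      rw [← hz, ← mul_assoc, mul_inv_cancel₀ h0, one_mul]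
    exact_mod_cast e
  have hrR : (r : ℤ) ∣ (Fintype.card (R : Subgroup T) : ℤ) := by
    rw [Fintype.card_eq_nat_card]
    exact_mod_cast R.dvd_card_of_dvd_card (Nat.dvd_of_mem_primeFactors P.setting.mem)
  have hr3 : 3 ≤ r := by
    have := (Fact.out : r.Prime).two_le; have := P.setting.odd; omega
  have hd1 : (r : ℤ) ∣ (d : ℤ) - ε := by
    obtain ⟨m, hm⟩ := hrR
    exact ⟨m * z - m * ε, by rw [hm] at hcong; linear_combination hcong⟩
  have hndvd : ∀ e : ℤ, e ≠ 0 → e.natAbs < r → ¬ (r : ℤ) ∣ e := fun e he hlt hdvd =>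
    absurd (Nat.le_of_dvd (Int.natAbs_pos.2 he) (Int.natCast_dvd.1 hdvd)) (by omega)
  rcases Nat.even_or_odd d with heven | hodd
  swap
  · refine ⟨χ, hχ1, d, hd, hodd, fun hdvd => hndvd (-ε) (by omega) (by omega) ?_⟩
    have : (r : ℤ) ∣ (d : ℤ) := by exact_mod_cast hdvd
    simpa using dvd_sub hd1 this
  · obtain ⟨i⟩ := ‹Nonempty {ν : (R : Subgroup T) →* ℂˣ // ν ≠ 1}›
    have h2 : Cfsg.classInner (D i) (D i) = 2 := by
      rw [inner, if_pos rfl, if_neg (hne i).symm]; norm_num
    obtain ⟨χ', ε', hε', hV⟩ : ∃ (χ' : Cfsg.IrrCharacter T) (ε' : ℤ),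
        (ε' = 1 ∨ ε' = -1) ∧ D i - U = (ε' : ℂ) • (χ' : T → ℂ) := by
      rcases signed_sub (gen i) h2 hU (hUD i) with h | h
      · exact ⟨⟨_, h⟩, 1, Or.inl rfl, by simp⟩
      · exact ⟨⟨_, h⟩, -1, Or.inr rfl, by simp⟩
    obtain ⟨d', -, hd'⟩ := Characters.Basic.exists_degree_pos χ'
    have hrel : -1 - ε * (d : ℤ) = ε' * (d' : ℤ) := by
      have h := congrFun hV 1
      rw [Pi.sub_apply, deg, hUχ] at h
      simp only [Pi.smul_apply, smul_eq_mul, hd, hd'] at h
      have e : ((-1 - ε * (d : ℤ) : ℤ) : ℂ) = ((ε' * (d' : ℤ) : ℤ) : ℂ) := by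
        push_cast; linear_combination h
      exact_mod_cast e
    have hodd' : Odd d' := by
      obtain ⟨j, hj⟩ := heven
      rcases hε with rfl | rfl <;> rcases hε' with rfl | rfl <;>
        (rw [Nat.odd_iff]; omega)
    refine ⟨χ', fun e => ?_, d', hd', hodd', fun hdvd => hndvd 2 (by norm_num) (by simp; omega) ?_⟩
    · have h := congrArg (fun F : T → ℂ => Cfsg.classInner F (oneChar T : T → ℂ)) hV
      simp only [classInner_sub_left, classInner_smul_left, hUχ, hD1, e,
        Characters.Basic.classInner_self_irr, Characters.Basic.classInner_irr_of_ne hχ1] at h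
      rcases hε' with rfl | rfl <;> norm_num at h
    · have h1 : (r : ℤ) ∣ (d' : ℤ) := by exact_mod_cast hdvd
      obtain ⟨m, hm⟩ := hd1
      obtain ⟨m', hm'⟩ := h1
      refine ⟨-(ε * m) - ε' * m', ?_⟩
      rcases hε with rfl | rfl <;> rcases hε' with rfl | rfl <;> linarith

end Proj

end Cfsg.Agent.Lib.TwoPrime82
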