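import Cfsg.Agent.Lib.TwoPrime82.Sylow2
import Cfsg.Agent.Lib.Linear.Order
import Cfsg.Agent.Lib.SmallGroups.ProjLine
import Cfsg.Agent.S5748
import Cfsg.Agent.S0252

/-!
# Two-prime simple groups are `A5` and `L2(8)`
-/

set_option autoImplicit false
set_option linter.unusedSectionVars false
set_option linter.style.haveILetI false

namespace Cfsg.Agent.Lib.TwoPrime82

open Subgroup

universe u

theorem pow_factor {a b p i : ℕ} (hp : p.Prime) (h : a * b = p ^ i) :
    ∃ s t, a = p ^ s ∧ b = p ^ t := by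
  obtain ⟨s, -, hs⟩ := (Nat.dvd_prime_pow hp).1 (Dvd.intro b h)
  obtain ⟨t, -, ht⟩ := (Nat.dvd_prime_pow hp).1 (Dvd.intro_left a h)
  exact ⟨s, t, hs, ht⟩

theorem three_dvd_pred_or_succ (f : ℕ) : (Even f → 3 ∣ 2 ^ f - 1) ∧ (Odd f → 3 ∣ 2 ^ f + 1) := by
  have h : ∀ k, 4 ^ k % 3 = 1 := fun k => by rw [Nat.pow_mod]; simp
  constructor
  · rintro ⟨k, rfl⟩
    rw [← two_mul, pow_mul]
    have := h k
    norm_num at this ⊢
    omega
  · rintro ⟨k, rfl⟩
    rw [pow_succ, pow_mul]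
    have := h k
    norm_num at this ⊢
    omega

/-- Two prime powers around a power of two. -/
theorem exponent_cases {f a b i j : ℕ} (hf : 2 ≤ f) (ha : a.Prime) (hb : b.Prime)
    (h1 : 2 ^ f - 1 = a ^ i) (h2 : 2 ^ f + 1 = b ^ j) : f = 2 ∨ f = 3 := by
  have h4 : 4 ∣ 2 ^ f := (show 4 = 2 ^ 2 by norm_num) ▸ pow_dvd_pow 2 hf
  rcases Nat.even_or_odd f with hev | hodd
  · have h3 := (three_dvd_pred_or_succ f).1 hev
    rw [h1] at h3
    obtain rfl : 3 = a := (Nat.prime_dvd_prime_iff_eq Nat.prime_three ha).1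
      (Nat.prime_three.dvd_of_dvd_pow h3)
    obtain ⟨k, rfl⟩ := hev
    left
    have hmul : (2 ^ k - 1) * (2 ^ k + 1) = 3 ^ i := by
      rw [← h1, pow_add, Nat.mul_comm (2 ^ k - 1), ← Nat.sq_sub_sq]; ring_nf
    obtain ⟨s, t, hs, ht⟩ := pow_factor Nat.prime_three hmul
    have hk : 2 ≤ 2 ^ k := by
      calc 2 = 2 ^ 1 := by norm_num
        _ ≤ 2 ^ k := Nat.pow_le_pow_right (by norm_num) (by omega)
    rcases Nat.eq_zero_or_pos s with rfl | hs0
    · have : k = 1 := Nat.pow_right_injective (le_refl 2) (show 2 ^ k = 2 ^ 1 by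
        rw [pow_zero] at hs; rw [pow_one]; omega)
      omega
    · exfalso
      have h3s : 3 ∣ 2 ^ k - 1 := hs ▸ dvd_pow_self 3 hs0.ne'
      have ht0 : t ≠ 0 := by rintro rfl; rw [pow_zero] at ht; omega
      have h3t : 3 ∣ 2 ^ k + 1 := ht ▸ dvd_pow_self 3 ht0
      omega
  · have h3 := (three_dvd_pred_or_succ f).2 hodd
    rw [h2] at h3
    obtain rfl : 3 = b := (Nat.prime_dvd_prime_iff_eq Nat.prime_three hb).1
      (Nat.prime_three.dvd_of_dvd_pow h3)
    right
    rcases Nat.even_or_odd j with ⟨c, rfl⟩ | ⟨c, rfl⟩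
    swap
    · exfalso
      have h9 : 9 ^ c % 4 = 1 := by rw [Nat.pow_mod]; simp
      rw [pow_succ, pow_mul] at h2
      norm_num at h2
      omega
    · have hc0 : c ≠ 0 := by rintro rfl; norm_num at h2
      have hc : 3 ≤ 3 ^ c := Nat.le_self_pow hc0 3
      have hmul : (3 ^ c - 1) * (3 ^ c + 1) = 2 ^ f := by
        have : 2 ^ f = 3 ^ c * 3 ^ c - 1 * 1 := by rw [← pow_add, ← h2, Nat.mul_one, Nat.add_sub_cancel]
        rw [this, Nat.mul_self_sub_mul_self_eq, mul_comm]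
      obtain ⟨s, t, hs, ht⟩ := pow_factor Nat.prime_two hmul
      have ht2 : 2 ≤ t := by
        by_contra hlt
        have : 2 ^ t ≤ 2 ^ 1 := Nat.pow_le_pow_right (by norm_num) (by omega)
        omega
      have h4t : 4 ∣ 3 ^ c + 1 := ht ▸ (show 4 = 2 ^ 2 by norm_num) ▸ pow_dvd_pow 2 ht2
      have hs1 : s = 1 := by
        rcases Nat.lt_or_ge s 2 with hlt | hge
        · rcases Nat.eq_zero_or_pos s with rfl | h0
          · rw [pow_zero] at hs; omega
          · omega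
        · exfalso
          have : 4 ∣ 3 ^ c - 1 := hs ▸ (show 4 = 2 ^ 2 by norm_num) ▸ pow_dvd_pow 2 hge
          omega
      subst hs1
      have hc1 : c = 1 := Nat.pow_right_injective (show 2 ≤ 3 by norm_num)
        (show 3 ^ c = 3 ^ 1 by rw [pow_one] at hs ⊢; omega)
      subst hc1
      exact Nat.pow_right_injective (le_refl 2) (show 2 ^ f = 2 ^ 3 by norm_num at h2 ⊢; omega)

theorem exponent_of_card {f : ℕ} (hf : 2 ≤ f)
    (h : (2 ^ f * (2 ^ f - 1) * (2 ^ f + 1)).primeFactors.card = 3) : f = 2 ∨ f = 3 := by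
  have h4 : 4 ≤ 2 ^ f := le_trans (by norm_num) (Nat.pow_le_pow_right (show 0 < 2 by norm_num) hf)
  have h2d : 2 ∣ 2 ^ f := dvd_pow_self 2 (by omega)
  have hco1 : Nat.Coprime (2 ^ f) (2 ^ f - 1) := by
    refine Nat.Coprime.pow_left f ((Nat.prime_two.coprime_iff_not_dvd).2 ?_)
    omega
  have hco2 : Nat.Coprime (2 ^ f * (2 ^ f - 1)) (2 ^ f + 1) := by
    refine Nat.Coprime.mul_left (Nat.Coprime.pow_left f ((Nat.prime_two.coprime_iff_not_dvd).2 (by omega)))
      (Nat.coprime_of_dvd fun k hk hk1 hk2 => ?_)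
    have h2 : k ∣ 2 := by
      have := Nat.dvd_sub hk2 hk1
      rwa [show 2 ^ f + 1 - (2 ^ f - 1) = 2 by omega] at this
    obtain rfl : k = 2 := (Nat.prime_dvd_prime_iff_eq hk Nat.prime_two).1 h2
    omega
  rw [hco2.primeFactors_mul, hco1.primeFactors_mul, Nat.primeFactors_prime_pow (by omega) Nat.prime_two,
    Finset.card_union_of_disjoint, Finset.card_union_of_disjoint, Finset.card_singleton] at h
  rotate_left
  · simpa [Nat.primeFactors_prime_pow (show f ≠ 0 by omega) Nat.prime_two] using hco1.disjoint_primeFactors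
  · simpa [hco1.primeFactors_mul, Nat.primeFactors_prime_pow (show f ≠ 0 by omega) Nat.prime_two] using
      hco2.disjoint_primeFactors
  have hne : ∀ n, 1 < n → 1 ≤ n.primeFactors.card := fun n hn =>
    Finset.card_pos.2 (Nat.nonempty_primeFactors.2 hn)
  have h1 := hne (2 ^ f - 1) (by omega)
  have h2 := hne (2 ^ f + 1) (by omega)
  have key : ∀ n, n ≠ 0 → n.primeFactors.card = 1 → ∃ a i, a.Prime ∧ n = a ^ i := by
    intro n hn hc
    obtain ⟨a, ha⟩ := Finset.card_eq_one.1 hc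
    refine ⟨a, n.factorization a, Nat.prime_of_mem_primeFactors (n := n) (by simp [ha]), ?_⟩
    conv_lhs => rw [← Nat.prod_factorization_pow_eq_self hn]
    rw [Finsupp.prod, Nat.support_factorization, ha, Finset.prod_singleton]
  obtain ⟨a, i, ha, hai⟩ := key (2 ^ f - 1) (by omega) (by omega)
  obtain ⟨b, j, hb, hbj⟩ := key (2 ^ f + 1) (by omega) (by omega)
  exact exponent_cases hf ha hb hai hbj

variable {T : Type u} [Group T] [Finite T]

namespace Setting

variable (h : Setting T)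
include h

theorem exists_psl : ∃ (F : Type) (_ : Field F) (_ : Fintype F) (f : ℕ), (f = 2 ∨ f = 3) ∧
    Fintype.card F = 2 ^ f ∧ Nat.card T = 2 ^ f * (2 ^ f - 1) * (2 ^ f + 1) ∧
    Nonempty (T ≃* Matrix.ProjectiveSpecialLinearGroup (Fin 2) F) := by
  haveI := h.simple
  obtain ⟨F, hF, hFi, f, hf, hcard, ⟨e⟩⟩ := S5748.forward h.nab h.isCT
  have hc : Nat.card T = 2 ^ f * (2 ^ f - 1) * (2 ^ f + 1) := by
    rw [Nat.card_congr e.toEquiv, Linear.card_PSL_two_of_even (by
      rw [hcard, Nat.even_pow]; exact ⟨even_two, by omega⟩), hcard]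
  refine ⟨F, hF, hFi, f, exponent_of_card hf ?_, hcard, hc, ⟨e⟩⟩
  rw [← hc, h.card_three]

theorem classify : Nonempty (T ≃* alternatingGroup (Fin 5)) ∨
    Nonempty (T ≃* Matrix.ProjectiveSpecialLinearGroup (Fin 2) (GaloisField 2 3)) := by
  obtain ⟨F, hF, hFi, f, hf, hcard, -, ⟨e⟩⟩ := h.exists_psl
  rcases hf with rfl | rfl
  · obtain ⟨e'⟩ := S0252.result (F := F) (by rw [hcard]; norm_num)
    exact Or.inl ⟨e.trans e'⟩
  · letI := Fintype.ofFinite (GaloisField 2 3)
    obtain ⟨e'⟩ := SmallGroups.ProjLine.psl_congr_card (F := F) (F' := GaloisField 2 3) (by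
      rw [hcard, ← Nat.card_eq_fintype_card, GaloisField.card 2 3 (by norm_num)])
    exact Or.inr ⟨e.trans e'⟩

end Setting

end Cfsg.Agent.Lib.TwoPrime82
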