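import Cfsg.Agent.Lib.TwoPrime82.Simple

/-!
# Two-prime simple groups: Sylow subgroups and automisers
-/

set_option autoImplicit false
set_option linter.unusedSectionVars false
set_option linter.style.haveILetI false

namespace Cfsg.Agent.Lib.TwoPrime82

open Subgroup
open Cfsg.Agent.Lib.ClassSizes.Basic

universe u

variable {T : Type u} [Group T] [Finite T]

theorem sum_three {f : ℕ → ℕ} {p r : ℕ} (hp : p ≠ 2) (hr : r ≠ 2) (hpr : p ≠ r) :
    ∑ q ∈ ({2, p, r} : Finset ℕ), f q = f 2 + f p + f r := by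
  rw [Finset.sum_insert (by simp [hp.symm, hr.symm]), Finset.sum_pair hpr, add_assoc]

/-- The index of the centre of a non-abelian `q`-group is at least `q ^ 2`. -/
theorem sq_le_index_center {q : ℕ} [hq : Fact q.Prime] {P : Type u} [Group P] [Finite P]
    (hP : IsPGroup q P) (hnc : ¬ IsMulCommutative P) :
    ∃ i, 2 ≤ i ∧ (center P).index = q ^ i := by
  obtain ⟨i, hi⟩ := hP.index (center P)
  refine ⟨i, ?_, hi⟩
  by_contra hlt
  have hc : Nat.card (P ⧸ center P) = q ^ i := (Subgroup.index_eq_card _).symm.trans hi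
  haveI : IsCyclic (P ⧸ center P) := by
    rcases (show i = 0 ∨ i = 1 by omega) with rfl | rfl
    · rw [pow_zero] at hc
      haveI := (Nat.card_eq_one_iff_unique.1 hc).1
      exact isCyclic_of_subsingleton
    · rw [pow_one] at hc
      exact isCyclic_of_prime_card hc
  exact hnc (MonoidHom.isMulCommutative_of_isCyclic_of_ker_le_center (QuotientGroup.mk' (center P))
    (by rw [QuotientGroup.ker_mk']))

/-- The automiser is at least the index of the centre. -/
theorem center_index_le_aut {q : ℕ} [Fact q.Prime] (Q : Sylow q T) :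
    (center (Q : Subgroup T)).index ≤ aut Q := by
  have h1 : center (Q : Subgroup T) =
      (centralizer ((Q : Subgroup T) : Set T)).subgroupOf Q := by
    ext a
    rw [mem_center_iff, mem_subgroupOf, mem_centralizer_iff]
    exact ⟨fun h b hb => congrArg Subtype.val (h ⟨b, hb⟩),
      fun h b => Subtype.ext (h b b.2)⟩
  rw [h1]
  exact relIndex_le_of_le_right le_normalizer Subgroup.index_ne_zero_of_finite

namespace Setting

variable (h : Setting T)
include h

theorem sum_ge {p r : ℕ} (hp : p ≠ 2) (hr : r ≠ 2) (hpr : p ≠ r)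
    (hP : (Nat.card T).primeFactors = {2, p, r}) :
    Nat.card T + 2 ≤ nFree T 2 + nFree T p + nFree T r := by
  have hsum := sum_nFree h.two _ rfl (by rw [h.card_three]; norm_num)
  rw [h.card_three, hP, sum_three hp hr hpr] at hsum
  omega

theorem two_le_aut_abelian {Q : Sylow 2 T} (hQ : IsMulCommutative (Q : Subgroup T)) : 3 ≤ aut Q := by
  have h2 := h.two_le_aut Q h.two_dvd
  have hle : (Q : Subgroup T) ≤ centralizer ((Q : Subgroup T) : Set T) := fun a ha =>
    mem_centralizer_iff.2 fun b hb =>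
      congrArg Subtype.val (hQ.is_comm.comm (⟨b, hb⟩ : (Q : Subgroup T)) ⟨a, ha⟩)
  have hd : aut Q ∣ (Q : Subgroup T).index :=
    dvd_trans (dvd_of_mul_right_eq _ (relIndex_mul_index (centralizer_le_normalizer _)))
      (index_dvd_of_le hle)
  by_contra hlt
  exact Q.not_dvd_index ((dvd_of_eq (show 2 = aut Q by omega)).trans hd)

theorem three_le_aut_two (Q : Sylow 2 T) : 3 ≤ aut Q := by
  by_cases hQ : IsMulCommutative (Q : Subgroup T)
  · exact h.two_le_aut_abelian hQ
  · obtain ⟨i, hi, hc⟩ := sq_le_index_center Q.isPGroup' hQ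
    have h1 := center_index_le_aut Q
    have h2 : 2 ^ 2 ≤ 2 ^ i := Nat.pow_le_pow_right (by norm_num) hi
    rw [hc] at h1
    omega

theorem odd_abelian {q : ℕ} (hq : q ∈ (Nat.card T).primeFactors) (hq2 : q ≠ 2) [Fact q.Prime]
    (Q : Sylow q T) : IsMulCommutative (Q : Subgroup T) := by
  by_contra hQ
  obtain ⟨p, r, hp, hr, hp2, hr2, hpr, hP⟩ := h.exists_primes
  obtain ⟨i, hi, hc⟩ := sq_le_index_center Q.isPGroup' hQ
  have h9 : 9 ≤ aut Q := by
    have h1 := center_index_le_aut Q
    have h3 : 3 ≤ q := by have := (Fact.out : q.Prime).two_le; omega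
    have h2 : q ^ 2 ≤ q ^ i := Nat.pow_le_pow_right (by omega) hi
    have : 3 ^ 2 ≤ q ^ 2 := Nat.pow_le_pow_left h3 2
    rw [hc] at h1
    omega
  have hsum := h.sum_ge hp2 hr2 hpr hP
  haveI := Fact.mk hp
  haveI := Fact.mk hr
  haveI := Fact.mk Nat.prime_two
  have hbp := h.bound (default : Sylow p T) (h.two_le_aut default
    (Nat.dvd_of_mem_primeFactors (by rw [hP]; simp)))
  have hbr := h.bound (default : Sylow r T) (h.two_le_aut default
    (Nat.dvd_of_mem_primeFactors (by rw [hP]; simp)))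
  have hb2 := h.bound (default : Sylow 2 T) (h.three_le_aut_two default)
  have hbq := h.bound Q h9
  rw [hP] at hq
  simp only [Finset.mem_insert, Finset.mem_singleton] at hq
  rcases hq with e | e | e <;> subst e <;> omega

theorem type_of_odd {q k : ℕ} (hq : q ∈ (Nat.card T).primeFactors) (hq2 : q ≠ 2) {x : T}
    (hx : orderOf x = q ^ k) : HasType x q :=
  h.type_of_abelian hq (fun {_} Q => h.odd_abelian hq hq2 Q) hx

/-- With an abelian Sylow 2-subgroup all centralisers are Sylow subgroups. -/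
theorem cen_eq_of_abelian (hS : ∀ [Fact (Nat.Prime 2)] (S : Sylow 2 T),
    IsMulCommutative (S : Subgroup T)) {x : T} (hx : x ≠ 1) :
    ∃ (q : ℕ) (_ : Fact q.Prime) (Q : Sylow q T), centralizer ({x} : Set T) = Q ∧
      IsMulCommutative (Q : Subgroup T) := by
  have hab : ∀ s ∈ (Nat.card T).primeFactors, ∀ [Fact s.Prime] (Q : Sylow s T),
      IsMulCommutative (Q : Subgroup T) := by
    intro s hs hF Q
    by_cases hs2 : s = 2
    · subst hs2; exact hS Q
    · exact h.odd_abelian hs hs2 Q
  obtain ⟨q, hq, hqd⟩ := Nat.exists_prime_and_dvd (fun e => hx (orderOf_eq_one_iff.1 e))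
  haveI := Fact.mk hq
  obtain ⟨m, hm⟩ := hqd
  have hm0 : m ≠ 0 := by rintro rfl; exact (orderOf_pos x).ne' (by rw [hm, mul_zero])
  have hy : orderOf (x ^ m) = q ^ 1 := by
    rw [orderOf_pow' x hm0, hm, Nat.gcd_eq_right (dvd_mul_left _ _),
      Nat.mul_div_cancel _ (Nat.pos_of_ne_zero hm0), pow_one]
  have hy1 : x ^ m ≠ 1 := fun e => by
    rw [e, orderOf_one, pow_one] at hy; exact hq.one_lt.ne hy
  have hqT : q ∈ (Nat.card T).primeFactors :=
    Nat.mem_primeFactors.2 ⟨hq, (Dvd.intro m hm.symm).trans (orderOf_dvd_natCard x),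
      Nat.card_pos.ne'⟩
  obtain ⟨Q, hQ⟩ := h.cen_eq_sylow hy1 hy (h.type_of_abelian hqT (fun {_} Q => hab q hqT Q) hy)
    (fun s hs _ {_} Q => hab s hs Q)
  have hle : centralizer ({x} : Set T) ≤ Q := hQ ▸ fun c hc =>
    mem_cen.mpr ((show Commute x c from mem_cen.mp hc).pow_left m)
  have hQc := hab q hqT Q
  refine ⟨q, inferInstance, Q, le_antisymm hle fun a ha => mem_cen.mpr ?_, hQc⟩
  exact congrArg Subtype.val (hQc.is_comm.comm
    (⟨x, hle (mem_cen.mpr rfl)⟩ : (Q : Subgroup T)) ⟨a, ha⟩)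

/-- A non-trivial element of the centre of a Sylow 2-subgroup has that subgroup as centraliser. -/
theorem cen_central_two [Fact (Nat.Prime 2)] (S : Sylow 2 T) {t : T} (ht : t ∈ (S : Subgroup T))
    (ht1 : t ≠ 1) (hc : ∀ a ∈ (S : Subgroup T), t * a = a * t) :
    centralizer ({t} : Set T) = S := by
  obtain ⟨k, hk⟩ := IsPGroup.iff_orderOf.mp S.isPGroup' (⟨t, ht⟩ : (S : Subgroup T))
  rw [← orderOf_coe] at hk
  have hle : (S : Subgroup T) ≤ centralizer ({t} : Set T) := fun a ha => mem_cen.mpr (hc a ha)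
  have hty : HasType t 2 :=
    ⟨Nat.mem_primeFactors.2 ⟨Nat.prime_two, h.two_dvd, Nat.card_pos.ne'⟩, free_of_sylow_le S hle⟩
  obtain ⟨Q, hQ⟩ := h.cen_eq_sylow ht1 hk hty (fun s hs hs2 {_} Q => h.odd_abelian hs hs2 Q)
  rw [hQ, S.is_maximal' Q.isPGroup' (hQ ▸ hle)]

/-- A non-abelian Sylow 2-subgroup does not have a centre of index four. -/
theorem eight_le_aut [Fact (Nat.Prime 2)] (S : Sylow 2 T)
    (hS : ¬ IsMulCommutative (S : Subgroup T)) : 8 ≤ aut S := by
  obtain ⟨i, hi, hc⟩ := sq_le_index_center S.isPGroup' hS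
  have h1 := center_index_le_aut S
  rcases Nat.lt_or_ge i 3 with hlt | h3
  swap
  · have : 2 ^ 3 ≤ 2 ^ i := Nat.pow_le_pow_right (by norm_num) h3
    rw [hc] at h1
    omega
  exfalso
  obtain rfl : i = 2 := by omega
  set Z := center (S : Subgroup T)
  have hsq : ∀ y : (S : Subgroup T), y ∉ Z → y * y = 1 := by
    intro y hy
    have hyy : y * y ∈ Z := by
      by_contra hyy
      have hord : orderOf (QuotientGroup.mk y : (S : Subgroup T) ⧸ Z) = 2 ^ (1 + 1) := by
        refine orderOf_eq_prime_pow ?_ ?_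
        · rw [pow_one, pow_two, ← QuotientGroup.mk_mul, QuotientGroup.eq_one_iff]
          exact hyy
        · have hcard : Nat.card ((S : Subgroup T) ⧸ Z) = 2 ^ (1 + 1) := by
            rw [← Subgroup.index_eq_card]; exact hc
          rw [← hcard]
          exact pow_card_eq_one'
      haveI : IsCyclic ((S : Subgroup T) ⧸ Z) := isCyclic_of_orderOf_eq_card _ (by
        rw [hord, ← Subgroup.index_eq_card]; exact hc.symm)
      exact hS (MonoidHom.isMulCommutative_of_isCyclic_of_ker_le_center (QuotientGroup.mk' Z)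
        (by rw [QuotientGroup.ker_mk']))
    by_contra hne
    have hcen := h.cen_central_two S (t := ((y * y : (S : Subgroup T)) : T)) (y * y).2
      (fun e => hne (Subtype.ext e))
      (fun a ha => congrArg Subtype.val (mem_center_iff.1 hyy ⟨a, ha⟩).symm)
    have hle : centralizer ({(y : T)} : Set T) ≤ S := by
      refine le_of_le_of_eq ?_ hcen
      intro c hc'
      have hcm : Commute (y : T) c := mem_cen.mp hc'
      exact mem_cen.mpr (by rw [coe_mul]; exact (hcm.mul_left hcm).eq)
    obtain ⟨q, hq, hfree⟩ := h.exists_type (x := (y : T)) fun e => hne (by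
      rw [show y = 1 from Subtype.ext e, one_mul])
    haveI := Fact.mk (Nat.prime_of_mem_primeFactors hq)
    obtain ⟨Q, hQ⟩ := exists_sylow_le hfree
    by_cases hq2 : q = 2
    · subst hq2
      have he : (S : Subgroup T) = Q := Q.is_maximal' S.isPGroup' (hQ.trans hle)
      refine hy (mem_center_iff.2 fun a => Subtype.ext ?_)
      exact (mem_cen.mp (hQ (he ▸ a.2))).symm
    · have hdisj := IsPGroup.disjoint_of_ne q 2 hq2 (Q : Subgroup T) (S : Subgroup T) Q.isPGroup'
        S.isPGroup'
      have hbot : (Q : Subgroup T) = ⊥ := (inf_eq_left.2 (hQ.trans hle)).symm.trans hdisj.eq_bot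
      exact Q.ne_bot_of_dvd_card (Nat.dvd_of_mem_primeFactors hq) hbot
  obtain ⟨y, hy⟩ : ∃ y : (S : Subgroup T), y ∉ Z := by
    by_contra hall
    push Not at hall
    exact hS ⟨⟨fun a b => (mem_center_iff.1 (hall b) a)⟩⟩
  have hall : ∀ a : (S : Subgroup T), a * a = 1 := by
    intro a
    by_cases ha : a ∈ Z
    · have hm := hsq (y * a) fun hm => hy (by
        have := Z.mul_mem hm (Z.inv_mem ha)
        rwa [mul_inv_cancel_right] at this)
      have hya : y * a = a * y := mem_center_iff.1 ha y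
      calc a * a = y * y * (a * a) := by rw [hsq y hy, one_mul]
        _ = y * (y * a) * a := by group
        _ = y * (a * y) * a := by rw [hya]
        _ = y * a * (y * a) := by group
        _ = 1 := hm
    · exact hsq a ha
  refine hS ⟨⟨fun a b => ?_⟩⟩
  have hinv : ∀ c : (S : Subgroup T), c⁻¹ = c := fun c => inv_eq_of_mul_eq_one_left (hall c)
  calc a * b = (a * b)⁻¹ := (hinv _).symm
    _ = b * a := by rw [mul_inv_rev, hinv, hinv]

/-- With a non-abelian Sylow 2-subgroup the odd automisers have order two. -/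
theorem aut_eq_two [Fact (Nat.Prime 2)] {S : Sylow 2 T} (hS : ¬ IsMulCommutative (S : Subgroup T))
    {q : ℕ} (hq : q ∈ (Nat.card T).primeFactors) (hq2 : q ≠ 2) [Fact q.Prime] (Q : Sylow q T) :
    aut Q = 2 := by
  obtain ⟨p, r, hp, hr, hp2, hr2, hpr, hP⟩ := h.exists_primes
  have h2 := h.two_le_aut Q (Nat.dvd_of_mem_primeFactors hq)
  by_contra hne
  have h3 : 3 ≤ aut Q := by omega
  have hsum := h.sum_ge hp2 hr2 hpr hP
  haveI := Fact.mk hp
  haveI := Fact.mk hr
  have hbp := h.bound (default : Sylow p T) (h.two_le_aut default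
    (Nat.dvd_of_mem_primeFactors (by rw [hP]; simp)))
  have hbr := h.bound (default : Sylow r T) (h.two_le_aut default
    (Nat.dvd_of_mem_primeFactors (by rw [hP]; simp)))
  have hb2 := h.bound S (h.eight_le_aut S hS)
  have hbq := h.bound Q h3
  rw [hP] at hq
  simp only [Finset.mem_insert, Finset.mem_singleton] at hq
  rcases hq with e | e | e <;> subst e <;> omega

end Setting

end Cfsg.Agent.Lib.TwoPrime82
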