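import Cfsg.Agent.Lib.TwoPrime82.Almost

/-!
# Non-solvable groups with at most two primes in each class size

Such a group is the product of its centre and a simple normal subgroup `A5` or `L2(8)`.
-/

set_option autoImplicit false
set_option linter.unusedSectionVars false
set_option linter.style.haveILetI false

namespace Cfsg.Agent.Lib.TwoPrime82

open Subgroup
open Cfsg.Agent.Lib.ClassSizes.Basic

universe u v

theorem setting_congr {T : Type u} [Group T] [Finite T] {T' : Type u} [Group T'] [Finite T']
    (e : T ≃* T') (h : Setting T) : Setting T' where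
  simple := by
    haveI := h.simple
    exact e.symm.isSimpleGroup
  nab hc := h.nab ⟨⟨fun a b => e.injective (by rw [map_mul, map_mul]; exact hc.is_comm.comm _ _)⟩⟩
  two := twoPrime_map h.two e.toMonoidHom e.surjective

theorem solvable_of_normal {G : Type u} [Group G] (N : Subgroup G) [N.Normal]
    (hN : Group.IsSolvable N) (hQ : Group.IsSolvable (G ⧸ N)) : Group.IsSolvable G := by
  haveI := hN
  haveI := hQ
  exact Group.isSolvable_of_ker_le_range N.subtype (QuotientGroup.mk' N)
    (by rw [QuotientGroup.ker_mk', Subgroup.range_subtype])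

namespace Setting

variable {T : Type u} [Group T] [Finite T] (h : Setting T)
include h

theorem not_solvable : ¬ Group.IsSolvable T := fun hs => by
  haveI := h.simple
  exact h.nab ⟨⟨fun a b => IsSimpleGroup.comm_iff_isSolvable.2 hs a b⟩⟩

theorem abelian {r : ℕ} [Fact r.Prime] (hr : r ∈ (Nat.card T).primeFactors) (P : Sylow r T) :
    IsMulCommutative (P : Subgroup T) := by
  by_cases h2 : r = 2
  · subst h2; exact h.two_abelian P
  · exact h.odd_abelian hr h2 P

theorem pair_card {x : T} (hx : x ≠ 1) :
    (centralizer ({x} : Set T)).index.primeFactors.card = 2 := by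
  set I := (centralizer ({x} : Set T)).index with hI
  have hI0 : I ≠ 0 := Subgroup.index_ne_zero_of_finite
  have hsub : I.primeFactors ⊆ (Nat.card T).primeFactors :=
    Nat.primeFactors_mono (index_dvd_card _) Nat.card_pos.ne'
  have he : ((Nat.card T).primeFactors.filter fun q => ¬ q ∣ I) =
      (Nat.card T).primeFactors \ I.primeFactors := by
    ext q
    simp only [Finset.mem_filter, Finset.mem_sdiff, Nat.mem_primeFactors]
    constructor
    · rintro ⟨h1, h2⟩; exact ⟨h1, fun h3 => h2 h3.2.1⟩
    · rintro ⟨h1, h2⟩; exact ⟨h1, fun h3 => h2 ⟨h1.1, h3, hI0⟩⟩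
  have h1 := h.type_card hx
  rw [← hI, he, Finset.card_sdiff_of_subset hsub, h.card_three] at h1
  omega

/-- Nothing can be added to all the pairs of primes. -/
theorem no_extra {I : ℕ} (hI : I ≠ 0)
    (hall : ∀ a : T, a ≠ 1 →
      ((centralizer ({a} : Set T)).index.primeFactors ∪ I.primeFactors).card ≤ 2) : I = 1 := by
  by_contra hne
  obtain ⟨s, hs, hsd⟩ := Nat.exists_prime_and_dvd hne
  haveI := Fact.mk hs
  obtain ⟨a, ha, hsa⟩ : ∃ a : T, a ≠ 1 ∧ s ∉ (centralizer ({a} : Set T)).index.primeFactors := by
    by_cases hsT : s ∈ (Nat.card T).primeFactors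
    · obtain ⟨a, ha⟩ := exists_prime_orderOf_dvd_card' s (Nat.dvd_of_mem_primeFactors hsT)
      refine ⟨a, fun e => hs.one_lt.ne (by rw [← ha, e, orderOf_one]), fun hmem => ?_⟩
      exact (h.type_of_abelian hsT (fun {_} P => h.abelian hsT P) (k := 1) (by rw [ha, pow_one])).2
        (Nat.dvd_of_mem_primeFactors hmem)
    · haveI := h.simple.1
      obtain ⟨a, ha⟩ := exists_ne (1 : T)
      exact ⟨a, ha, fun hmem => hsT (Nat.primeFactors_mono (index_dvd_card _) Nat.card_pos.ne' hmem)⟩
  have h2 := h.pair_card ha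
  have h3 : (insert s (centralizer ({a} : Set T)).index.primeFactors).card ≤ 2 := by
    refine (Finset.card_le_card (Finset.insert_subset ?_ Finset.subset_union_left)).trans (hall a ha)
    exact Finset.mem_union_right _ (Nat.mem_primeFactors.2 ⟨hs, hsd, hI⟩)
  rw [Finset.card_insert_of_notMem hsa] at h3
  omega

end Setting

variable {G : Type u} [Group G] [Finite G]

theorem union_le (hG : TwoPrime G) (A B : Subgroup G) [A.Normal] [B.Normal]
    (hc : ∀ x ∈ A, ∀ y ∈ B, Commute x y) (a : A) (b : B) :
    ((centralizer ({a} : Set A)).index.primeFactors ∪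
      (centralizer ({b} : Set B)).index.primeFactors).card ≤ 2 := by
  refine le_trans (Finset.card_le_card (Finset.union_subset ?_ ?_)) (hG ((a : G) * b))
  · refine Nat.primeFactors_mono ?_ Subgroup.index_ne_zero_of_finite
    have e : centralizer ({a} : Set A) = (centralizer ({(a : G) * b} : Set G)).subgroupOf A := by
      ext y
      rw [cen_sub, mem_subgroupOf, mem_subgroupOf, mem_cen, mem_cen]
      constructor
      · intro hy
        exact ((show Commute (a : G) y from hy).mul_left (hc _ y.2 _ b.2).symm).eq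
      · intro hy
        have h1 := (show Commute ((a : G) * b) y from hy).mul_left ((hc _ y.2 _ b.2).symm.inv_left)
        have h2 : (a : G) * b * (b : G)⁻¹ = a := mul_inv_cancel_right _ _
        rw [h2] at h1
        exact h1.eq
    rw [e]
    exact index_sub_dvd A _
  · refine Nat.primeFactors_mono ?_ Subgroup.index_ne_zero_of_finite
    have e : centralizer ({b} : Set B) = (centralizer ({(a : G) * b} : Set G)).subgroupOf B := by
      ext y
      rw [cen_sub, mem_subgroupOf, mem_subgroupOf, mem_cen, mem_cen]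
      constructor
      · intro hy
        exact ((hc _ a.2 _ y.2).mul_left (show Commute (b : G) y from hy)).eq
      · intro hy
        have h1 := (hc _ a.2 _ y.2).inv_left.mul_left (show Commute ((a : G) * b) y from hy)
        have h2 : (a : G)⁻¹ * ((a : G) * b) = b := inv_mul_cancel_left _ _
        rw [h2] at h1
        exact h1.eq
    rw [e]
    exact index_sub_dvd B _

/-- A simple normal subgroup is invariant under all automorphisms. -/
theorem map_eq {M : Type u} [Group M] [Finite M] (hM : TwoPrime M) (T : Subgroup M) [T.Normal]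
    (hT : Setting T) (φ : M ≃* M) : T.map φ.toMonoidHom = T := by
  haveI := hT.simple
  set T' := T.map φ.toMonoidHom
  haveI : T'.Normal := Normal.map inferInstance _ φ.surjective
  have hT' : Setting T' := setting_congr (T.equivMapOfInjective φ.toMonoidHom φ.injective) hT
  rcases (inferInstance : (T'.subgroupOf T).Normal).eq_bot_or_eq_top with e | e
  · exfalso
    have hdisj : Disjoint T T' := by
      rw [disjoint_iff, eq_bot_iff]
      intro x hx
      have h1 : (⟨x, hx.1⟩ : T) ∈ T'.subgroupOf T := hx.2
      rw [e, mem_bot] at h1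
      exact congrArg Subtype.val h1
    have hc : ∀ x ∈ T, ∀ y ∈ T', Commute x y := fun x hx y hy =>
      commute_of_normal_of_disjoint T T' inferInstance inferInstance hdisj x y hx hy
    haveI := hT.simple.1
    obtain ⟨a, ha⟩ := exists_ne (1 : T)
    have h1 := hT'.no_extra Subgroup.index_ne_zero_of_finite (I := (centralizer ({a} : Set T)).index)
      fun b _ => by rw [Finset.union_comm]; exact union_le hM T T' hc a b
    have h2 := hT.pair_card ha
    rw [h1] at h2
    simp at h2
  · exact (Subgroup.eq_of_le_of_card_ge (subgroupOf_eq_top.1 e)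
      (le_of_eq (Nat.card_congr (T.equivMapOfInjective φ.toMonoidHom φ.injective).toEquiv).symm)).symm

theorem exists_min_normal (R : Subgroup G) [hR : R.Normal] (hne : R ≠ ⊥) :
    ∃ V : Subgroup G, V.Normal ∧ V ≤ R ∧ V ≠ ⊥ ∧
      ∀ W : Subgroup G, W.Normal → W ≤ V → W = ⊥ ∨ W = V := by
  obtain ⟨V, hV, hmin⟩ := Set.exists_min_image
    {V : Subgroup G | V.Normal ∧ V ≤ R ∧ V ≠ ⊥} (fun V => Nat.card V) (Set.toFinite _)
    ⟨R, hR, le_rfl, hne⟩
  refine ⟨V, hV.1, hV.2.1, hV.2.2, fun W hW hle => ?_⟩
  by_contra hcon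
  rw [not_or] at hcon
  exact hcon.2 (Subgroup.eq_of_le_of_card_ge hle (hmin W ⟨hW, hle.trans hV.2.1, hcon.1⟩))

/-- A perfect group with solvable minimal normal subgroup over a simple two-prime group. -/
theorem false_of_extension (hG : TwoPrime G) (hperf : commutator G = ⊤) (V : Subgroup G) [V.Normal]
    (hV : V ≠ ⊥) (hmin : ∀ W : Subgroup G, W.Normal → W ≤ V → W = ⊥ ∨ W = V)
    (hsol : Group.IsSolvable V) (hQ : Setting (G ⧸ V)) : False := by
  haveI := hQ.simple
  haveI := hsol
  haveI : Nontrivial V := (Subgroup.nontrivial_iff_ne_bot V).2 hV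
  have hab : ∀ x ∈ V, ∀ y ∈ V, x * y = y * x := by
    rcases hmin ⁅V, V⁆ inferInstance (commutator_le_left V V) with e | e
    · intro x hx y hy
      have := commutator_mem_commutator hx hy
      rw [e, mem_bot, commutatorElement_eq_one_iff_mul_comm] at this
      exact this
    · exfalso
      have h1 : (commutator V).map V.subtype = (⊤ : Subgroup V).map V.subtype := by
        rw [map_subtype_commutator, e, ← MonoidHom.range_eq_map, range_subtype]
      exact (Group.IsSolvable.commutator_lt_top_of_nontrivial V).ne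
        (map_injective V.subtype_injective h1)
  obtain ⟨s, hs, hsd⟩ := Nat.exists_prime_and_dvd (n := Nat.card V)
    (Finite.one_lt_card.ne')
  haveI := Fact.mk hs
  let W : Subgroup G :=
    { carrier := {v | v ∈ V ∧ v ^ s = 1}
      one_mem' := ⟨one_mem _, one_pow _⟩
      mul_mem' := fun {a b} ha hb => ⟨mul_mem ha.1 hb.1, by
        rw [(show Commute a b from hab _ ha.1 _ hb.1).mul_pow, ha.2, hb.2, one_mul]⟩
      inv_mem' := fun {a} ha => ⟨inv_mem ha.1, by rw [inv_pow, ha.2, inv_one]⟩ }
  have hWn : W.Normal := ⟨fun v hv g => ⟨(inferInstance : V.Normal).conj_mem v hv.1 g, by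
    rw [conj_pow, hv.2, mul_one, mul_inv_cancel]⟩⟩
  have hWV : W = V := by
    refine (hmin W hWn fun v hv => hv.1).resolve_left fun e => ?_
    obtain ⟨v, hv⟩ := exists_prime_orderOf_dvd_card' s hsd
    have hv' : (v : G) ∈ W := ⟨v.2, by
      have : orderOf (v : G) = s := by rw [orderOf_coe, hv]
      rw [← this, pow_orderOf_eq_one]⟩
    rw [e, mem_bot] at hv'
    rw [show v = 1 from Subtype.ext hv', orderOf_one] at hv
    exact hs.one_lt.ne hv
  have hVp : IsPGroup s V := fun v => ⟨1, Subtype.ext (by
    rw [pow_one, coe_pow, coe_one]; exact (hWV.ge v.2).2)⟩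
  set π := QuotientGroup.mk' V
  have hπ : Function.Surjective π := QuotientGroup.mk'_surjective V
  have hker : π.ker = V := QuotientGroup.ker_mk' V
  -- the kernel is central
  have hcent : V ≤ center G := by
    by_contra hnc
    set K := centralizer (V : Set G) with hK
    have hVK : V ≤ K := fun x hx => mem_centralizer_iff.2 fun y hy => hab y hy x hx
    have hKV : K ≤ V := by
      haveI : (K.map π).Normal := Normal.map inferInstance π hπ
      rcases (inferInstance : (K.map π).Normal).eq_bot_or_eq_top with e | e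
      · intro x hx
        rw [← hker, MonoidHom.mem_ker, ← mem_bot, ← e]
        exact mem_map_of_mem _ hx
      · exfalso
        apply hnc
        have htop : K = ⊤ := by
          have := congrArg (Subgroup.comap π) e
          rwa [comap_map_eq, hker, sup_eq_left.2 hVK, comap_top] at this
        intro x hx
        rw [mem_center_iff]
        intro g
        exact (mem_centralizer_iff.1 (htop ▸ mem_top g : g ∈ K) x hx).symm
    refine hs.ne_one (hQ.no_extra hs.ne_zero fun b hb => ?_)
    obtain ⟨a, rfl⟩ := hπ b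
    have haV : a ∉ V := fun ha => hb (MonoidHom.mem_ker.1 (hker.symm ▸ ha))
    refine le_trans (Finset.card_le_card (Finset.union_subset ?_ ?_)) (hG a)
    · exact Nat.primeFactors_mono (index_map_dvd' π hπ a) Subgroup.index_ne_zero_of_finite
    · rw [hs.primeFactors, Finset.singleton_subset_iff, Nat.mem_primeFactors]
      refine ⟨hs, ?_, Subgroup.index_ne_zero_of_finite⟩
      have h1 : (centralizer ({a} : Set G)).relIndex V ∣ Nat.card V := relIndex_dvd_card _ _
      obtain ⟨k, hk⟩ := IsPGroup.iff_card.1 hVp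
      rw [hk] at h1
      obtain ⟨i, -, hi⟩ := (Nat.dvd_prime_pow hs).1 h1
      have hi0 : i ≠ 0 := by
        intro e
        rw [e, pow_zero, relIndex_eq_one] at hi
        exact haV (hKV (mem_centralizer_iff.2 fun x hx =>
          (mem_cen.mp (hi hx)).symm))
      exact ((dvd_pow_self s hi0).trans (dvd_of_eq hi.symm)).trans (index_sub_dvd V a)
  -- the Sylow subgroup of `G` is abelian
  obtain ⟨P⟩ : Nonempty (Sylow s G) := inferInstance
  have hVP : V ≤ P := by
    obtain ⟨S, hS⟩ := hVp.exists_le_sylow
    obtain ⟨g, hg⟩ := MulAction.exists_smul_eq G S P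
    intro x hx
    rw [← hg, Sylow.coe_subgroup_smul]
    have h1 : g⁻¹ * x * g ∈ V := by
      simpa using (inferInstance : V.Normal).conj_mem x hx g⁻¹
    have := smul_mem_pointwise_smul _ (MulAut.conj g) _ (hS h1)
    simpa [mul_assoc] using this
  let Q : Sylow s (G ⧸ V) := P.mapSurjective hπ
  have hcomap : (Q : Subgroup (G ⧸ V)).comap π = (P : Subgroup G) := by
    rw [show (Q : Subgroup (G ⧸ V)) = (P : Subgroup G).map π from rfl, comap_map_eq, hker,
      sup_eq_left.2 hVP]
  have hcomm : ∀ a ∈ (P : Subgroup G), ∀ b ∈ (P : Subgroup G), a * b = b * a := by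
    intro a ha b hb
    by_cases haV : a ∈ V
    · exact (mem_center_iff.1 (hcent haV) b).symm
    set x := π a with hx
    have hx1 : x ≠ 1 := fun e => haV (hker ▸ MonoidHom.mem_ker.2 e)
    have hxQ : x ∈ (Q : Subgroup (G ⧸ V)) := mem_map_of_mem π ha
    have hsT : s ∈ (Nat.card (G ⧸ V)).primeFactors := by
      obtain ⟨k, hk⟩ := IsPGroup.iff_orderOf.mp Q.isPGroup' ⟨x, hxQ⟩
      rw [← orderOf_coe] at hk
      refine Nat.mem_primeFactors.2 ⟨hs, ?_, Nat.card_pos.ne'⟩
      rcases Nat.eq_zero_or_pos k with rfl | hk0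
      · exact absurd (orderOf_eq_one_iff.1 (hk.trans (pow_zero s))) hx1
      · exact ((dvd_pow_self s hk0.ne').trans (dvd_of_eq hk.symm)).trans (orderOf_dvd_natCard x)
    obtain ⟨t, _, Q', hQ', -⟩ := hQ.cen_sylow hx1
    have hQle : (Q : Subgroup (G ⧸ V)) ≤ Q' := hQ' ▸ fun y hy => mem_cen.mpr
      (congrArg Subtype.val ((hQ.abelian hsT Q).is_comm.comm (⟨x, hxQ⟩ : (Q : Subgroup (G ⧸ V))) ⟨y, hy⟩))
    obtain rfl : s = t := by
      by_contra h2
      have hdisj := IsPGroup.disjoint_of_ne s t h2 (Q : Subgroup (G ⧸ V)) (Q' : Subgroup (G ⧸ V))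
        Q.isPGroup' Q'.isPGroup'
      exact Q.ne_bot_of_dvd_card (Nat.dvd_of_mem_primeFactors hsT)
        ((inf_eq_left.2 hQle).symm.trans hdisj.eq_bot)
    have hQQ : centralizer ({x} : Set (G ⧸ V)) = Q := hQ'.trans (Q.is_maximal' Q'.isPGroup' hQle)
    have hle : centralizer ({a} : Set G) ≤ P := by
      intro c hc
      rw [← hcomap, mem_comap, ← hQQ]
      exact mem_cen.mpr (by rw [hx, ← map_mul, ← map_mul, mem_cen.mp hc])
    suffices hPle : (P : Subgroup G) ≤ centralizer ({a} : Set G) from mem_cen.mp (hPle hb)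
    by_contra hnle
    obtain ⟨k, hk⟩ := IsPGroup.iff_card.1 P.isPGroup'
    have h1 : (centralizer ({a} : Set G)).relIndex P ∣ s ^ k := hk ▸ relIndex_dvd_card _ _
    obtain ⟨i, -, hi⟩ := (Nat.dvd_prime_pow hs).1 h1
    have hi0 : i ≠ 0 := fun e => hnle (relIndex_eq_one.1 (by rw [hi, e, pow_zero]))
    have hidx : (P : Subgroup G).index = (centralizer ({x} : Set (G ⧸ V))).index := by
      rw [← hcomap, index_comap_of_surjective _ hπ, hQQ]
    have h2 := hQ.pair_card hx1
    rw [← hidx] at h2
    have hprod := relIndex_mul_index hle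
    have hsub : insert s (P : Subgroup G).index.primeFactors ⊆
        (centralizer ({a} : Set G)).index.primeFactors := by
      rw [← hprod, hi, Nat.primeFactors_mul (pow_ne_zero _ hs.ne_zero)
        Subgroup.index_ne_zero_of_finite, Nat.primeFactors_prime_pow hi0 hs]
      exact Finset.insert_subset (Finset.mem_union_left _ (Finset.mem_singleton_self s))
        Finset.subset_union_right
    have h3 := (Finset.card_le_card hsub).trans (hG a)
    rw [Finset.card_insert_of_notMem fun hm => P.not_dvd_index (Nat.dvd_of_mem_primeFactors hm)] at h3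
    omega
  have hPc : IsMulCommutative (P : Subgroup G) :=
    ⟨⟨fun a b => Subtype.ext (hcomm a a.2 b b.2)⟩⟩
  obtain ⟨v, hvV, hv1⟩ := (Subgroup.bot_or_exists_ne_one V).resolve_left hV
  exact hv1 (fixed_eq_one hperf P hPc (hVP hvV) fun n _ => by
    rw [mem_center_iff.1 (hcent hvV) n, mul_inv_cancel_right])

theorem exists_simple : ∀ (n : ℕ) {G : Type u} [Group G] [Finite G], Nat.card G = n → TwoPrime G →
    ¬ Group.IsSolvable G → ∃ (T : Subgroup G) (_ : T.Normal), Setting T := by
  intro n
  induction n using Nat.strong_induction_on with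
  | _ n ih =>
    intro G _ _ hn hG hns
    by_cases hprop : ∃ N : Subgroup G, N.Normal ∧ N ≠ ⊤ ∧ ¬ Group.IsSolvable N
    · obtain ⟨N, hN, hNtop, hNs⟩ := hprop
      have hlt : Nat.card N < n := by
        rw [← hn]
        refine lt_of_le_of_ne N.card_le_card_group fun e => hNtop ?_
        exact eq_top_of_card_eq N e
      obtain ⟨T₀, hT₀n, hT₀⟩ := ih _ hlt rfl (twoPrime_sub hG N) hNs
      refine ⟨T₀.map N.subtype, ⟨?_⟩,
        setting_congr (T₀.equivMapOfInjective N.subtype N.subtype_injective) hT₀⟩
      rintro _ ⟨x, hx, rfl⟩ g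
      have h1 := map_eq (twoPrime_sub hG N) T₀ hT₀ (MulAut.conjNormal g)
      refine ⟨MulAut.conjNormal g x, ?_, by simp⟩
      rw [← h1]
      exact mem_map_of_mem _ hx
    push Not at hprop
    have hperf : commutator G = ⊤ := by
      by_contra hne
      refine hns (solvable_of_normal _ (hprop _ inferInstance hne) ?_)
      exact Group.isSolvable_of_comm (G := Abelianization G) fun a b => mul_comm a b
    set R := PrimePowerClass.Radical.solRad G
    have hRs := PrimePowerClass.Radical.solRad_isSolvable (G := G)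
    by_cases hR : R = ⊥
    · haveI : Nontrivial G := by
        by_contra hh
        rw [not_nontrivial_iff_subsingleton] at hh
        exact hns (Group.isSolvable_of_comm fun _ _ => Subsingleton.elim _ _)
      have hsimple : IsSimpleGroup G := ⟨fun N hN => by
        by_cases htop : N = ⊤
        · exact Or.inr htop
        · haveI := hN
          exact Or.inl (eq_bot_iff.2 (hR ▸ PrimePowerClass.Radical.le_solRad (hprop N hN htop)))⟩
      have hset : Setting G :=
        ⟨hsimple, fun hc => hns (Group.isSolvable_of_comm hc.is_comm.comm), hG⟩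
      exact ⟨⊤, inferInstance, setting_congr Subgroup.topEquiv.symm hset⟩
    exfalso
    obtain ⟨V, hVn, hVR, hV, hmin⟩ := exists_min_normal R hR
    have hVs : Group.IsSolvable V :=
      haveI := hRs
      Group.isSolvable_of_isSolvable_injective (f := Subgroup.inclusion hVR) (inclusion_injective _)
    have hlt : Nat.card (G ⧸ V) < n := by
      rw [← hn, ← Subgroup.index_eq_card, ← V.card_mul_index]
      haveI := (Subgroup.nontrivial_iff_ne_bot V).2 hV
      exact lt_mul_of_one_lt_left (Nat.pos_of_ne_zero index_ne_zero_of_finite) Finite.one_lt_card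
    have hQns : ¬ Group.IsSolvable (G ⧸ V) := fun hq => hns (solvable_of_normal V hVs hq)
    obtain ⟨T, hTn, hT⟩ := ih _ hlt rfl (twoPrime_map hG (QuotientGroup.mk' V)
      (QuotientGroup.mk'_surjective V)) hQns
    have hTtop : T = ⊤ := by
      by_contra hne
      have hne' : T.comap (QuotientGroup.mk' V) ≠ ⊤ := fun e => hne (by
        rw [← map_comap_eq_self_of_surjective (QuotientGroup.mk'_surjective V) T, e,
          ← MonoidHom.range_eq_map, MonoidHom.range_eq_top.2 (QuotientGroup.mk'_surjective V)])
      haveI := hprop _ (inferInstance : (T.comap (QuotientGroup.mk' V)).Normal) hne'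
      exact hT.not_solvable (Group.isSolvable_of_surjective
        (f := (QuotientGroup.mk' V).subgroupComap T)
        (MonoidHom.subgroupComap_surjective_of_surjective _ T (QuotientGroup.mk'_surjective V)))
    subst hTtop
    exact false_of_extension hG hperf V hV hmin hVs (setting_congr Subgroup.topEquiv hT)

/-- The main theorem. -/
theorem main (hG : TwoPrime G) (hns : ¬ Group.IsSolvable G) :
    ∃ S : Subgroup G, S.Normal ∧ center G ⊓ S = ⊥ ∧ center G ⊔ S = ⊤ ∧
      (Nonempty (S ≃* alternatingGroup (Fin 5)) ∨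
        Nonempty (S ≃* Matrix.ProjectiveSpecialLinearGroup (Fin 2) (GaloisField 2 3))) := by
  obtain ⟨T, hTn, hT⟩ := exists_simple _ rfl hG hns
  set C := centralizer (T : Set G) with hC
  have hTC : T ⊓ C = ⊥ := by
    rw [eq_bot_iff]
    intro x hx
    have h1 : (⟨x, hx.1⟩ : T) ∈ center T := mem_center_iff.2 fun y =>
      Subtype.ext (mem_centralizer_iff.1 hx.2 y y.2)
    rw [hT.center_eq_bot, mem_bot] at h1
    exact congrArg Subtype.val h1
  have hcm : ∀ x ∈ T, ∀ y ∈ C, Commute x y := fun x hx y hy => mem_centralizer_iff.1 hy x hx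
  have hCab : ∀ x ∈ C, ∀ y ∈ C, x * y = y * x := by
    intro x hx y hy
    have hCn : C.Normal := inferInstance
    obtain ⟨I, hI⟩ : ∃ I, I = (centralizer ({⟨x, hx⟩} : Set C)).index := ⟨_, rfl⟩
    have hI0 : I ≠ 0 := hI ▸ Subgroup.index_ne_zero_of_finite
    have h1 : I = 1 := hT.no_extra hI0 fun a _ => hI ▸ union_le hG T C hcm a ⟨x, hx⟩
    rw [hI] at h1
    rw [index_eq_one] at h1
    have h2 : (⟨y, hy⟩ : C) ∈ centralizer ({⟨x, hx⟩} : Set C) := h1 ▸ mem_top _
    exact congrArg Subtype.val (mem_cen.mp h2)
  haveI : C.Normal := inferInstance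
  set π := QuotientGroup.mk' C
  have hπ : Function.Surjective π := QuotientGroup.mk'_surjective C
  set T' := T.map π
  haveI : T'.Normal := Normal.map inferInstance π hπ
  have hinj : Function.Injective (π.subgroupMap T) := by
    rw [injective_iff_map_eq_one]
    intro x hx
    have h1 : π (x : G) = 1 := congrArg Subtype.val hx
    rw [← MonoidHom.mem_ker, QuotientGroup.ker_mk'] at h1
    have h2 : (x : G) ∈ T ⊓ C := ⟨x.2, h1⟩
    rw [hTC, mem_bot] at h2
    exact Subtype.ext h2
  have hT' : Setting T' :=
    setting_congr (MulEquiv.ofBijective _ ⟨hinj, π.subgroupMap_surjective T⟩) hT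
  have hcen : centralizer (T' : Set (G ⧸ C)) = ⊥ := by
    rw [eq_bot_iff]
    intro y hy
    obtain ⟨g, rfl⟩ := hπ y
    rw [mem_bot, ← MonoidHom.mem_ker, QuotientGroup.ker_mk', hC, mem_centralizer_iff]
    intro t ht
    have h1 : t * g * t⁻¹ * g⁻¹ ∈ T ⊓ C := by
      refine ⟨?_, ?_⟩
      · have := mul_mem ht ((inferInstance : T.Normal).conj_mem t⁻¹ (inv_mem ht) g)
        simpa [mul_assoc] using this
      · show t * g * t⁻¹ * g⁻¹ ∈ C
        rw [← QuotientGroup.ker_mk' C, MonoidHom.mem_ker, map_mul, map_mul, map_mul, map_inv,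
          map_inv, mul_inv_eq_one, mul_inv_eq_iff_eq_mul]
        exact mem_centralizer_iff.1 hy (π t) (mem_map_of_mem π ht)
    rw [hTC, mem_bot, mul_inv_eq_one, mul_inv_eq_iff_eq_mul] at h1
    exact h1
  have htop := eq_top_of_almost (twoPrime_map hG π hπ) hT' hcen
  have hsup : T ⊔ C = ⊤ := by
    have := congrArg (Subgroup.comap π) htop
    rwa [comap_map_eq, QuotientGroup.ker_mk', comap_top] at this
  have hCZ : center G = C := by
    refine le_antisymm (center_le_centralizer _) fun c hc => mem_center_iff.2 fun g => ?_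
    obtain ⟨t, ht, d, hd, rfl⟩ := mem_sup_of_normal_left.1 (hsup ▸ mem_top g : g ∈ T ⊔ C)
    rw [mul_assoc, hCab d hd c hc, ← mul_assoc, (hcm t ht c hc).eq, mul_assoc]
  refine ⟨T, hTn, ?_, ?_, hT.classify⟩
  · rw [hCZ, inf_comm, hTC]
  · rw [hCZ, sup_comm, hsup]

end Cfsg.Agent.Lib.TwoPrime82
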