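import Cfsg.Agent.Lib.TwoPrime82.Local
import Cfsg.Agent.Lib.Isometry.TI
import Cfsg.Agent.Lib.Elem70.Basic

/-!
# Two-prime simple groups: the centraliser of an odd Sylow subgroup with automiser of order two

For `R` with automiser of order two: the outside of the centraliser in the normaliser inverts `R`, every
non-identity element of `R` has centraliser `C(R)`, and `C(R)` projects onto `R`.
-/

set_option autoImplicit false
set_option linter.unusedSectionVars false
set_option linter.style.haveILetI false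

namespace Cfsg.Agent.Lib.TwoPrime82

open Subgroup
open Cfsg.Agent.Lib.ClassSizes.Basic

universe u

/-- In a perfect group an element of an abelian Sylow subgroup fixed by the normaliser is trivial. -/
theorem fixed_eq_one {G : Type u} [Group G] [Finite G] (hperf : commutator G = ⊤) {p : ℕ}
    [Fact p.Prime] (P : Sylow p G) (hP : IsMulCommutative (P : Subgroup G)) {x : G}
    (hx : x ∈ (P : Subgroup G))
    (hfix : ∀ n ∈ normalizer ((P : Subgroup G) : Set G), n * x * n⁻¹ = x) : x = 1 := by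
  haveI := hP
  open scoped IsMulCommutative in
  have key : ∀ (k : ℕ) (g₀ : G), g₀⁻¹ * x ^ k * g₀ ∈ (P : Subgroup G) →
      g₀⁻¹ * x ^ k * g₀ = x ^ k := by
    intro k g₀ hk
    obtain ⟨n, hn, he⟩ := P.conj_eq_normalizer_conj_of_mem (x ^ k) g₀ (pow_mem hx k) hk
    rw [he]
    have h1 := hfix n⁻¹ (inv_mem hn)
    rw [inv_inv] at h1
    calc n⁻¹ * x ^ k * n = (n⁻¹ * x * n⁻¹⁻¹) ^ k := by rw [conj_pow, inv_inv]
      _ = x ^ k := by rw [inv_inv, h1]
  open scoped IsMulCommutative in
  have h2 := MonoidHom.transfer_eq_pow (MonoidHom.id (P : Subgroup G)) x key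
  open scoped IsMulCommutative in
  have h3 : MonoidHom.transfer (MonoidHom.id (P : Subgroup G)) x = 1 :=
    (MonoidHom.mem_ker).1 (Abelianization.commutator_subset_ker _ (hperf ▸ mem_top x))
  rw [h3] at h2
  have h4 : x ^ (P : Subgroup G).index = 1 := (congrArg Subtype.val h2).symm
  obtain ⟨k, hk⟩ := IsPGroup.iff_orderOf.mp P.isPGroup' ⟨x, hx⟩
  rw [← orderOf_coe] at hk
  refine orderOf_eq_one_iff.1 (Nat.eq_one_of_dvd_coprimes ?_ (dvd_refl _) (orderOf_dvd_of_pow_eq_one h4))
  simp only at hk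
  rw [hk]
  exact (((Fact.out : p.Prime).coprime_iff_not_dvd).2 P.not_dvd_index).pow_left k

variable {T : Type u} [Group T] [Finite T] {r : ℕ} [Fact r.Prime]

/-- An odd Sylow subgroup with automiser of order two in the setting. -/
structure RSetting (R : Sylow r T) : Prop where
  set : Setting T
  odd : r ≠ 2
  mem : r ∈ (Nat.card T).primeFactors
  aut_two : aut R = 2

/-- The element inverting `R` and the projection of `C(R)` onto `R`. -/
structure Proj (R : Sylow r T) (w : T) (a : ℕ)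
    (f : centralizer ((R : Subgroup T) : Set T) →* (R : Subgroup T)) : Prop where
  setting : RSetting R
  w_mem : w ∈ normalizer ((R : Subgroup T) : Set T)
  w_not : w ∉ centralizer ((R : Subgroup T) : Set T)
  inv : ∀ b ∈ (R : Subgroup T), w * b * w⁻¹ = b⁻¹
  coset : ∀ n ∈ normalizer ((R : Subgroup T) : Set T), n ∉ centralizer ((R : Subgroup T) : Set T) →
    w⁻¹ * n ∈ centralizer ((R : Subgroup T) : Set T)
  cen : ∀ x ∈ (R : Subgroup T), x ≠ 1 →
    centralizer ({x} : Set T) = centralizer ((R : Subgroup T) : Set T)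
  pow : ∀ c, (f c : T) = (c : T) ^ a
  fix : ∀ c : centralizer ((R : Subgroup T) : Set T), (c : T) ∈ (R : Subgroup T) → (f c : T) = c
  ker : ∀ c, f c = 1 → ¬ r ∣ orderOf c

theorem le_cen_self (R : Sylow r T) (hR : IsMulCommutative (R : Subgroup T)) :
    (R : Subgroup T) ≤ centralizer ((R : Subgroup T) : Set T) := fun a ha =>
  mem_centralizer_iff.2 fun b hb =>
    congrArg Subtype.val (hR.is_comm.comm (⟨b, hb⟩ : (R : Subgroup T)) ⟨a, ha⟩)

theorem sq_ne_one_of_odd (R : Sylow r T) (hr : r ≠ 2) {x : T} (hx : x ∈ (R : Subgroup T))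
    (hx1 : x ≠ 1) : x * x ≠ 1 := by
  intro e
  obtain ⟨k, hk⟩ := IsPGroup.iff_orderOf.mp R.isPGroup' ⟨x, hx⟩
  rw [← orderOf_coe] at hk
  simp only at hk
  have hd : r ^ k ∣ 2 := hk ▸ orderOf_dvd_of_pow_eq_one (by rw [pow_two]; exact e)
  rcases Nat.eq_zero_or_pos k with rfl | hk0
  · exact hx1 (orderOf_eq_one_iff.1 (by rw [hk, pow_zero]))
  · exact hr ((Nat.prime_dvd_prime_iff_eq (Fact.out) Nat.prime_two).1
      ((dvd_pow_self r hk0.ne').trans hd))

namespace RSetting

variable {R : Sylow r T} (h : RSetting R)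
include h

theorem abelian : IsMulCommutative (R : Subgroup T) := h.set.odd_abelian h.mem h.odd R

theorem exists_w : ∃ w ∈ normalizer ((R : Subgroup T) : Set T),
    w ∉ centralizer ((R : Subgroup T) : Set T) ∧ (∀ b ∈ (R : Subgroup T), w * b * w⁻¹ = b⁻¹) ∧
    ∀ n ∈ normalizer ((R : Subgroup T) : Set T), n ∉ centralizer ((R : Subgroup T) : Set T) →
      w⁻¹ * n ∈ centralizer ((R : Subgroup T) : Set T) := by
  set N := normalizer ((R : Subgroup T) : Set T)
  set C := centralizer ((R : Subgroup T) : Set T)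
  have hi : (C.subgroupOf N).index = 2 := h.aut_two
  obtain ⟨w, hwN, hwC⟩ : ∃ w ∈ N, w ∉ C := by
    by_contra hall
    push Not at hall
    have : C.relIndex N = 1 := relIndex_eq_one.2 hall
    have h2 := h.aut_two
    rw [aut, this] at h2
    norm_num at h2
  have hcoset : ∀ n ∈ N, n ∉ C → w⁻¹ * n ∈ C := by
    intro n hn hnC
    have h3 := (mul_mem_iff_of_index_two hi (a := (⟨w, hwN⟩ : N)⁻¹) (b := ⟨n, hn⟩)).2
      (by simp [mem_subgroupOf, hwC, hnC])
    simpa [mem_subgroupOf] using h3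
  have hw2 : w * w ∈ C := by
    have h3 := mul_self_mem_of_index_two hi (⟨w, hwN⟩ : N)
    simpa [mem_subgroupOf] using h3
  refine ⟨w, hwN, hwC, fun b hb => ?_, hcoset⟩
  have hbw : w * b * w⁻¹ ∈ (R : Subgroup T) := (mem_normalizer_iff.1 hwN b).1 hb
  have hcomm : ∀ u ∈ C, ∀ v ∈ (R : Subgroup T), u * v * u⁻¹ = v := fun u hu v hv => by
    rw [← mem_centralizer_iff.1 hu v hv, mul_inv_cancel_right]
  have hwb : w * (b * (w * b * w⁻¹)) * w⁻¹ = b * (w * b * w⁻¹) := by
    calc w * (b * (w * b * w⁻¹)) * w⁻¹ = w * b * w⁻¹ * (w * w * b * (w * w)⁻¹) := by group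
      _ = w * b * w⁻¹ * b := by rw [hcomm _ hw2 b hb]
      _ = b * (w * b * w⁻¹) := congrArg Subtype.val
          (h.abelian.is_comm.comm (⟨_, hbw⟩ : (R : Subgroup T)) ⟨b, hb⟩)
  have h1 := fixed_eq_one h.set.perfect R h.abelian (mul_mem hb hbw) fun n hn => by
    by_cases hnC : n ∈ C
    · exact hcomm n hnC _ (mul_mem hb hbw)
    · calc n * (b * (w * b * w⁻¹)) * n⁻¹
          = w * ((w⁻¹ * n) * (b * (w * b * w⁻¹)) * (w⁻¹ * n)⁻¹) * w⁻¹ := by group
        _ = w * (b * (w * b * w⁻¹)) * w⁻¹ := by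
            rw [hcomm _ (hcoset n hn hnC) _ (mul_mem hb hbw)]
        _ = _ := hwb
  exact eq_inv_of_mul_eq_one_right h1

theorem cen_eq {x : T} (hx : x ∈ (R : Subgroup T)) (hx1 : x ≠ 1) :
    centralizer ({x} : Set T) = centralizer ((R : Subgroup T) : Set T) := by
  classical
  refine le_antisymm ?_ fun c hc => mem_cen.mpr (mem_centralizer_iff.1 hc x hx)
  obtain ⟨w, hwN, hwC, hinv, hcoset⟩ := h.exists_w
  set D := centralizer ({x} : Set T)
  set C := centralizer ((R : Subgroup T) : Set T)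
  have hRD : (R : Subgroup T) ≤ D := (le_cen_self R h.abelian).trans fun c hc =>
    mem_cen.mpr (mem_centralizer_iff.1 hc x hx)
  let R' : Sylow r D := R.subtype hRD
  have hR' : ∀ d : D, d ∈ (R' : Subgroup D) ↔ (d : T) ∈ (R : Subgroup T) := fun d => by
    rw [Sylow.coe_subtype, mem_subgroupOf]
  have hP : normalizer ((R' : Subgroup D) : Set D) ≤
      centralizer ((R' : Subgroup D) : Set D) := by
    intro d hd
    have hdN : (d : T) ∈ normalizer ((R : Subgroup T) : Set T) :=
      Isometry.TI.mem_normalizer_of_mapsTo fun b hb => by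
        exact (hR' _).1 ((mem_normalizer_iff.1 hd ⟨b, hRD hb⟩).1 ((hR' _).2 hb))
    have hdC : (d : T) ∈ C := by
      by_contra hn
      refine sq_ne_one_of_odd R h.odd hx hx1 ?_
      have h1 : x * (w⁻¹ * (d : T)) = w⁻¹ * (d : T) * x :=
        mem_centralizer_iff.1 (hcoset _ hdN hn) x hx
      have h2 : x * (d : T) = (d : T) * x := mem_cen.mp d.2
      have h3 : w * x * w⁻¹ = x := by
        calc w * x * w⁻¹ = w * (x * (w⁻¹ * (d : T))) * (d : T)⁻¹ := by group
          _ = (d : T) * x * (d : T)⁻¹ := by rw [h1]; group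
          _ = x := by rw [← h2]; group
      rw [hinv x hx] at h3
      calc x * x = x⁻¹ * x := by rw [h3]
        _ = 1 := inv_mul_cancel x
    rw [mem_centralizer_iff]
    intro b hb
    exact Subtype.ext (mem_centralizer_iff.1 hdC b ((hR' b).1 hb))
  obtain ⟨-, K, hK, hcompl, -, hKr⟩ := exists_abelian_complement R' hP
  have hKtop : C.comap (D.subtype.comp K.subtype) = ⊤ := by
    refine Lib.Elem70.eq_top_of_forall_conj _ fun u => ?_
    by_cases hu : u = 1
    · exact ⟨1, by simp [hu]⟩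
    obtain ⟨k, hk⟩ := IsPGroup.iff_orderOf.mp R.isPGroup' ⟨x, hx⟩
    rw [← orderOf_coe] at hk
    simp only at hk
    have hco : (orderOf x).Coprime (orderOf ((u : D) : T)) := by
      rw [hk, orderOf_coe, orderOf_coe]
      exact (((Fact.out : r.Prime).coprime_iff_not_dvd).2
        fun hd => hKr (hd.trans (orderOf_dvd_natCard u))).pow_left k
    have hcm : Commute x ((u : D) : T) := mem_cen.mp (u : D).2
    have hxu : x * ((u : D) : T) ≠ 1 := fun e => hx1 (by
      have : x = ((u : D) : T)⁻¹ := eq_inv_of_mul_eq_one_left e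
      rw [this, orderOf_inv, Nat.coprime_self, orderOf_eq_one_iff] at hco
      rw [this, hco, inv_one])
    obtain ⟨t, ht, hft⟩ := h.set.exists_type hxu
    have hcen := cen_mul_eq hcm hco
    obtain rfl : t = r := h.set.type_unique hx1
      ⟨ht, fun hd => hft (hd.trans (index_dvd_of_le (hcen.le.trans inf_le_left)))⟩
      (h.set.type_of_odd h.mem h.odd hk)
    obtain ⟨S, hS⟩ := exists_sylow_le hft
    have hSD : (S : Subgroup T) ≤ D := hS.trans (hcen.le.trans inf_le_left)
    obtain ⟨d, hd⟩ := MulAction.exists_smul_eq D R' (S.subtype hSD)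
    obtain ⟨⟨c, b⟩, hcb : (c : D) * b = d⟩ := hcompl.2 d
    refine ⟨c, mem_centralizer_iff.2 fun v hv => ?_⟩
    have hbR : ((b : D) : T) ∈ (R : Subgroup T) := (hR' _).1 b.2
    have hv' : ((b : D) : T)⁻¹ * v * ((b : D) : T) ∈ (R : Subgroup T) :=
      mul_mem (mul_mem (inv_mem hbR) hv) hbR
    have h5 : d * (⟨_, hRD hv'⟩ : D) * d⁻¹ ∈ (S.subtype hSD : Subgroup D) := by
      rw [← hd, Sylow.coe_subgroup_smul]
      exact smul_mem_pointwise_smul _ (MulAut.conj d) _ ((hR' _).2 hv')
    rw [Sylow.coe_subtype, mem_subgroupOf, ← hcb] at h5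
    have h6 : Commute ((c : D) * v * ((c : D) : T)⁻¹) ((u : D) : T) := by
      have h7 := mem_cen.mp ((hS.trans (hcen.le.trans inf_le_right)) h5)
      simp only [coe_mul, InvMemClass.coe_inv] at h7
      show _ * _ = _ * _
      convert h7.symm using 2 <;> group
    simp only [MonoidHom.coe_comp, Subgroup.coe_subtype, Function.comp_apply, coe_mul,
      InvMemClass.coe_inv]
    calc v * (((c : D) : T)⁻¹ * ((u : D) : T) * ((c : D) : T))
        = ((c : D) : T)⁻¹ * (((c : D) : T) * v * ((c : D) : T)⁻¹ * ((u : D) : T)) *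
            ((c : D) : T) := by group
      _ = ((c : D) : T)⁻¹ * (((u : D) : T) * (((c : D) : T) * v * ((c : D) : T)⁻¹)) *
            ((c : D) : T) := by rw [h6.eq]
      _ = _ := by group
  intro d hd
  obtain ⟨⟨c, b⟩, hcb : (c : D) * b = ⟨d, hd⟩⟩ := hcompl.2 ⟨d, hd⟩
  have e : d = ((c : D) : T) * ((b : D) : T) := (congrArg Subtype.val hcb).symm
  rw [e]
  exact mul_mem (show c ∈ C.comap (D.subtype.comp K.subtype) by rw [hKtop]; exact mem_top _)
    (le_cen_self R h.abelian ((hR' _).1 b.2))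

theorem exists_proj : ∃ (w : T) (a : ℕ)
    (f : centralizer ((R : Subgroup T) : Set T) →* (R : Subgroup T)), Proj R w a f := by
  classical
  obtain ⟨w, hwN, hwC, hinv, hcoset⟩ := h.exists_w
  set C := centralizer ((R : Subgroup T) : Set T) with hC
  have hRC : (R : Subgroup T) ≤ C := le_cen_self R h.abelian
  let R' : Sylow r C := R.subtype hRC
  have hR' : ∀ d : C, d ∈ (R' : Subgroup C) ↔ (d : T) ∈ (R : Subgroup T) := fun d => by
    rw [Sylow.coe_subtype, mem_subgroupOf]
  obtain ⟨-, K, hK, hcompl, -, hKr⟩ := exists_abelian_complement R' (fun d _ =>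
    mem_centralizer_iff.2 fun b hb => Subtype.ext (mem_centralizer_iff.1 d.2 b ((hR' b).1 hb)))
  obtain ⟨j, hj⟩ := IsPGroup.iff_card.mp R'.isPGroup'
  have hco : (Nat.card (R' : Subgroup C)).Coprime (Nat.card K) := by
    rw [hj]
    exact ((Fact.out : r.Prime).coprime_iff_not_dvd.2 hKr).pow_left j
  obtain ⟨a, ha1, ha2⟩ := Nat.chineseRemainder hco 1 0
  have hK1 : ∀ c ∈ K, (c : T) ^ a = 1 := fun c hc => by
    rw [← coe_pow, orderOf_dvd_iff_pow_eq_one.1 ((K.orderOf_dvd_natCard hc).trans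
      (Nat.modEq_zero_iff_dvd.1 ha2)), coe_one]
  have hR1 : ∀ c ∈ (R' : Subgroup C), (c : T) ^ a = (c : T) := fun c hc => by
    have h1 : c ^ a = c ^ 1 := pow_eq_pow_iff_modEq.2
      (ha1.of_dvd ((R' : Subgroup C).orderOf_dvd_natCard hc))
    rw [← coe_pow, h1, pow_one]
  have hdec : ∀ c : C, ∃ k ∈ K, ∃ b ∈ (R' : Subgroup C), k * b = c := fun c => by
    obtain ⟨⟨k, b⟩, e⟩ := hcompl.2 c
    exact ⟨k, k.2, b, b.2, e⟩
  have hcomm : ∀ (k b : C), b ∈ (R' : Subgroup C) → Commute (k : T) (b : T) := fun k b hb =>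
    (mem_centralizer_iff.1 k.2 b ((hR' b).1 hb)).symm
  have hval : ∀ (k b : C), k ∈ K → b ∈ (R' : Subgroup C) → ((k * b : C) : T) ^ a = b := by
    intro k b hk hb
    rw [coe_mul, (hcomm k b hb).mul_pow, hK1 k hk, one_mul, hR1 b hb]
  have hmem : ∀ c : C, (c : T) ^ a ∈ (R : Subgroup T) := by
    intro c
    obtain ⟨k, hk, b, hb, rfl⟩ := hdec c
    rw [hval k b hk hb]
    exact (hR' b).1 hb
  let f : C →* (R : Subgroup T) :=
    { toFun := fun c => ⟨(c : T) ^ a, hmem c⟩
      map_one' := Subtype.ext (one_pow a)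
      map_mul' := fun c d => by
        obtain ⟨k, hk, b, hb, rfl⟩ := hdec c
        obtain ⟨k', hk', b', hb', rfl⟩ := hdec d
        have e : k * b * (k' * b') = k * k' * (b * b') := by
          have : Commute b k' := Subtype.ext (hcomm k' b hb).symm
          rw [mul_assoc, ← mul_assoc b, this.eq, mul_assoc k', ← mul_assoc]
        apply Subtype.ext
        show ((k * b * (k' * b') : C) : T) ^ a = ((k * b : C) : T) ^ a * ((k' * b' : C) : T) ^ a
        rw [e, hval _ _ (mul_mem hk hk') (mul_mem hb hb'), hval k b hk hb, hval k' b' hk' hb',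
          coe_mul] }
  refine ⟨w, a, f, h, hwN, hwC, hinv, hcoset, fun x hx hx1 => h.cen_eq hx hx1, fun c => rfl,
    fun c hc => hR1 c ((hR' c).2 hc), fun c hc => ?_⟩
  obtain ⟨k, hk, b, hb, rfl⟩ := hdec c
  have hb1 : b = 1 := Subtype.ext ((hval k b hk hb).symm.trans (congrArg Subtype.val hc))
  subst hb1
  rw [mul_one]
  exact fun hd => hKr (hd.trans (K.orderOf_dvd_natCard hk))

end RSetting

end Cfsg.Agent.Lib.TwoPrime82
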