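import Cfsg.Agent.Lib.TwoPrime82.Avg
import Cfsg.Agent.Lib.PrimePowerClass.Basic
import Cfsg.Agent.Lib.KnownSimple.KGroup
import Cfsg.Agent.Lib.Induced.Burnside

/-!
# Simple groups with at most two primes in each class size: the first facts

Exactly three primes `2, p, r` divide the order, each non-identity element is free for exactly one of
them (its type), the odd Sylow subgroups are abelian, and if a Sylow 2-subgroup is non-abelian then the
odd automisers have order two.
-/

set_option autoImplicit false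
set_option linter.unusedSectionVars false
set_option linter.style.haveILetI false

namespace Cfsg.Agent.Lib.TwoPrime82

open Subgroup
open Cfsg.Agent.Lib.ClassSizes.Basic

universe u

variable {T : Type u} [Group T] [Finite T]

/-- The standing hypothesis. -/
structure Setting (T : Type u) [Group T] [Finite T] : Prop where
  simple : IsSimpleGroup T
  nab : ¬ IsMulCommutative T
  two : TwoPrime T

/-- The type of an element. -/
def HasType (x : T) (q : ℕ) : Prop := q ∈ (Nat.card T).primeFactors ∧ Free q x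

/-- The automiser order of a Sylow subgroup. -/
noncomputable def aut {q : ℕ} (Q : Sylow q T) : ℕ :=
  (centralizer ((Q : Subgroup T) : Set T)).relIndex (normalizer ((Q : Subgroup T) : Set T))

omit [Finite T] in
theorem free_of_sylow_le [Finite T] {q : ℕ} [Fact q.Prime] {x : T} (Q : Sylow q T)
    (h : (Q : Subgroup T) ≤ centralizer ({x} : Set T)) : Free q x := not_dvd_of_sylow_le Q h

theorem free_of_mem_abelian {q : ℕ} [Fact q.Prime] (Q : Sylow q T)
    (hQ : IsMulCommutative (Q : Subgroup T)) {x : T} (hx : x ∈ (Q : Subgroup T)) : Free q x :=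
  free_of_sylow_le Q fun a ha => mem_cen.mpr
    (congrArg Subtype.val (hQ.is_comm.comm (⟨x, hx⟩ : (Q : Subgroup T)) ⟨a, ha⟩))

theorem exists_sylow_mem {q : ℕ} [Fact q.Prime] {x : T} {k : ℕ} (hx : orderOf x = q ^ k) :
    ∃ Q : Sylow q T, x ∈ (Q : Subgroup T) := by
  obtain ⟨Q, hQ⟩ := (SylowNumbers.Basic.isPGroup_zpowers hx).exists_le_sylow
  exact ⟨Q, hQ (mem_zpowers x)⟩

/-- All Sylow subgroups are commutative once one is. -/
theorem abelian_of_one {q : ℕ} [Fact q.Prime] (Q Q' : Sylow q T)
    (hQ : IsMulCommutative (Q : Subgroup T)) : IsMulCommutative (Q' : Subgroup T) := by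
  let e := Q.equiv Q'
  refine ⟨⟨fun a b => ?_⟩⟩
  obtain ⟨a, rfl⟩ := e.surjective a
  obtain ⟨b, rfl⟩ := e.surjective b
  rw [← map_mul, ← map_mul, hQ.is_comm.comm]

namespace Setting

variable (h : Setting T)
include h

theorem perfect : commutator T = ⊤ := KnownSimple.commutator_eq_top_of_simple h.simple h.nab

theorem solRad_eq : PrimePowerClass.Radical.solRad T = ⊥ := by
  haveI := h.simple
  refine ((inferInstance : (PrimePowerClass.Radical.solRad T).Normal).eq_bot_or_eq_top).resolve_right
    fun e => h.nab ?_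
  have hs := PrimePowerClass.Radical.solRad_isSolvable (G := T)
  rw [e] at hs
  haveI : Group.IsSolvable T :=
    Group.isSolvable_of_surjective (f := (Subgroup.topEquiv : (⊤ : Subgroup T) ≃* T).toMonoidHom)
      (Subgroup.topEquiv : (⊤ : Subgroup T) ≃* T).surjective
  exact ⟨⟨fun a b => IsSimpleGroup.comm_iff_isSolvable.2 inferInstance a b⟩⟩

theorem not_two_primes (p q : ℕ) (hp : p.Prime) (hq : q.Prime)
    (hsub : (Nat.card T).primeFactors ⊆ {p, q}) : False := by
  haveI := h.simple
  obtain ⟨a, b, hab⟩ : ∃ a b, Nat.card T = p ^ a * q ^ b := by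
    refine ⟨(Nat.card T).factorization p, if p = q then 0 else (Nat.card T).factorization q, ?_⟩
    conv_lhs => rw [← Nat.prod_factorization_pow_eq_self (Nat.card_pos (α := T)).ne']
    rw [Finsupp.prod_of_support_subset _ (Nat.support_factorization _ ▸ hsub) _ (by simp)]
    by_cases e : p = q
    · subst e; simp
    · rw [Finset.prod_pair e, if_neg e]
  haveI := Induced.Burnside.isSolvable_of_card_eq p q a b hp hq hab
  exact h.nab ⟨⟨fun a b => IsSimpleGroup.comm_iff_isSolvable.2 inferInstance a b⟩⟩

theorem two_le_aut {q : ℕ} [Fact q.Prime] (Q : Sylow q T) (hq : q ∣ Nat.card T) : 2 ≤ aut Q := by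
  have h0 : aut Q ≠ 0 := Subgroup.index_ne_zero_of_finite
  have h1 : aut Q ≠ 1 := by
    intro e
    obtain ⟨-, N, -, -, hle, hN⟩ := exists_abelian_complement Q (relIndex_eq_one.mp e)
    rw [h.perfect, top_le_iff] at hle
    subst hle
    rw [card_top] at hN
    exact hN hq
  omega

theorem bound {q : ℕ} [Fact q.Prime] (Q : Sylow q T) {e : ℕ} (he : e ≤ aut Q) :
    nFree T q * e ≤ Nat.card T := (Nat.mul_le_mul_left _ he).trans (nFree_mul_le Q)

theorem card_three : (Nat.card T).primeFactors.card = 3 := by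
  have hge : 3 ≤ (Nat.card T).primeFactors.card := by
    by_contra hlt
    obtain ⟨p, q, hp, hq, hsub⟩ : ∃ p q, p.Prime ∧ q.Prime ∧ (Nat.card T).primeFactors ⊆ {p, q} := by
      rcases (show (Nat.card T).primeFactors.card = 0 ∨ (Nat.card T).primeFactors.card = 1 ∨
          (Nat.card T).primeFactors.card = 2 by omega) with h0 | h1 | h2
      · exact ⟨2, 2, Nat.prime_two, Nat.prime_two, by simp [Finset.card_eq_zero.1 h0]⟩
      · obtain ⟨p, hp⟩ := Finset.card_eq_one.1 h1
        have hp' : p ∈ (Nat.card T).primeFactors := by simp [hp]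
        exact ⟨p, p, Nat.prime_of_mem_primeFactors hp', Nat.prime_of_mem_primeFactors hp',
          by simp [hp]⟩
      · obtain ⟨p, q, -, hpq⟩ := Finset.card_eq_two.1 h2
        exact ⟨p, q, Nat.prime_of_mem_primeFactors (n := Nat.card T) (by simp [hpq]),
          Nat.prime_of_mem_primeFactors (n := Nat.card T) (by simp [hpq]), hpq.le⟩
    exact h.not_two_primes p q hp hq hsub
  have hsum := sum_nFree h.two _ rfl (by omega : 2 ≤ (Nat.card T).primeFactors.card)
  have hle : 2 * ∑ q ∈ (Nat.card T).primeFactors, nFree T q ≤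
      (Nat.card T).primeFactors.card * Nat.card T := by
    rw [Finset.mul_sum, ← smul_eq_mul]
    refine Finset.sum_le_card_nsmul _ _ _ fun q hq => ?_
    haveI := Fact.mk (Nat.prime_of_mem_primeFactors hq)
    have := h.bound (default : Sylow q T) (h.two_le_aut default (Nat.dvd_of_mem_primeFactors hq))
    omega
  obtain ⟨k, hk⟩ : ∃ k, (Nat.card T).primeFactors.card = 3 + k := ⟨_, (Nat.add_sub_cancel' hge).symm⟩
  rw [hk, show 3 + k - 2 = 1 + k by omega] at hsum
  rw [hk] at hle ⊢
  rcases Nat.eq_zero_or_pos k with rfl | hk0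
  · rfl
  · have := Nat.mul_le_mul_right (Nat.card T) hk0
    rw [Nat.add_mul] at hsum hle
    omega

theorem two_dvd : 2 ∣ Nat.card T := by
  by_contra hodd
  have hsum := sum_nFree h.two _ rfl (by rw [h.card_three]; norm_num)
  rw [h.card_three] at hsum
  have hle : 3 * ∑ q ∈ (Nat.card T).primeFactors, nFree T q ≤ 3 * Nat.card T := by
    rw [Finset.mul_sum, ← h.card_three, ← smul_eq_mul, h.card_three]
    refine (Finset.sum_le_card_nsmul _ _ (Nat.card T) fun q hq => ?_).trans (by rw [h.card_three])
    haveI := Fact.mk (Nat.prime_of_mem_primeFactors hq)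
    have h2 := h.two_le_aut (default : Sylow q T) (Nat.dvd_of_mem_primeFactors hq)
    have hd : aut (default : Sylow q T) ∣ Nat.card T :=
      (relIndex_dvd_card _ _).trans (card_subgroup_dvd_card _)
    have h3 : 3 ≤ aut (default : Sylow q T) := by
      by_contra hlt
      exact hodd (Dvd.dvd.trans (dvd_of_eq (by omega)) hd)
    have := h.bound (default : Sylow q T) h3
    omega
  omega

theorem exists_primes : ∃ p r : ℕ, p.Prime ∧ r.Prime ∧ p ≠ 2 ∧ r ≠ 2 ∧ p ≠ r ∧
    (Nat.card T).primeFactors = {2, p, r} := by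
  have h2 : 2 ∈ (Nat.card T).primeFactors :=
    Nat.mem_primeFactors.2 ⟨Nat.prime_two, h.two_dvd, Nat.card_pos.ne'⟩
  obtain ⟨p, r, hpr, he⟩ := Finset.card_eq_two.1
    (show ((Nat.card T).primeFactors.erase 2).card = 2 by
      rw [Finset.card_erase_of_mem h2, h.card_three])
  have hp : p ∈ (Nat.card T).primeFactors.erase 2 := by simp [he]
  have hr : r ∈ (Nat.card T).primeFactors.erase 2 := by simp [he]
  rw [Finset.mem_erase] at hp hr
  exact ⟨p, r, Nat.prime_of_mem_primeFactors hp.2, Nat.prime_of_mem_primeFactors hr.2, hp.1, hr.1,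
    hpr, by rw [← Finset.insert_erase h2, he]⟩

/-- A non-identity element is free for exactly one prime. -/
theorem type_card {x : T} (hx : x ≠ 1) :
    ((Nat.card T).primeFactors.filter fun q => ¬ q ∣ (centralizer ({x} : Set T)).index).card = 1 := by
  set I := (centralizer ({x} : Set T)).index with hI
  have hI0 : I ≠ 0 := Subgroup.index_ne_zero_of_finite
  have hge : 2 ≤ I.primeFactors.card := by
    by_contra hlt
    obtain ⟨p, k, hp, hk⟩ : ∃ p k, p.Prime ∧ I = p ^ k := by
      rcases (show I.primeFactors.card = 0 ∨ I.primeFactors.card = 1 by omega) with h0 | h1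
      · refine ⟨2, 0, Nat.prime_two, ?_⟩
        rcases Nat.primeFactors_eq_empty.1 (Finset.card_eq_zero.1 h0) with e | e
        · exact absurd e hI0
        · simpa using e
      · obtain ⟨p, hp⟩ := Finset.card_eq_one.1 h1
        refine ⟨p, I.factorization p, Nat.prime_of_mem_primeFactors (n := I) (by simp [hp]), ?_⟩
        conv_lhs => rw [← Nat.prod_factorization_pow_eq_self hI0]
        rw [Finsupp.prod, Nat.support_factorization, hp, Finset.prod_singleton]
    have := PrimePowerClass.Basic.mem_solRad hp x hk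
    rw [h.solRad_eq, mem_bot] at this
    exact hx this
  have hle : I.primeFactors.card ≤ 2 := h.two x
  have hsub : I.primeFactors ⊆ (Nat.card T).primeFactors :=
    Nat.primeFactors_mono (index_dvd_card _) Nat.card_pos.ne'
  have he : ((Nat.card T).primeFactors.filter fun q => ¬ q ∣ I) =
      (Nat.card T).primeFactors \ I.primeFactors := by
    ext q
    simp only [Finset.mem_filter, Finset.mem_sdiff, Nat.mem_primeFactors]
    constructor
    · rintro ⟨h1, h2⟩; exact ⟨h1, fun h3 => h2 h3.2.1⟩
    · rintro ⟨h1, h2⟩; exact ⟨h1, fun h3 => h2 ⟨h1.1, h3, hI0⟩⟩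
  rw [he, Finset.card_sdiff_of_subset hsub, h.card_three]
  omega

theorem exists_type {x : T} (hx : x ≠ 1) : ∃ q, HasType x q := by
  obtain ⟨q, hq⟩ := Finset.card_pos.1 (by rw [h.type_card hx]; norm_num)
  exact ⟨q, Finset.mem_filter.1 hq⟩

theorem type_unique {x : T} (hx : x ≠ 1) {q q' : ℕ} (h1 : HasType x q) (h2 : HasType x q') :
    q = q' :=
  Finset.card_le_one.1 (h.type_card hx).le q (Finset.mem_filter.2 h1) q' (Finset.mem_filter.2 h2)

/-- Commuting elements of coprime order have the same type. -/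
theorem type_eq {x y : T} (hx : x ≠ 1) (hy : y ≠ 1) (hc : Commute x y)
    (hco : (orderOf x).Coprime (orderOf y)) {q q' : ℕ} (h1 : HasType x q) (h2 : HasType y q') :
    q = q' := by
  have hxy : x * y ≠ 1 := by
    intro e
    have hxe : x = y⁻¹ := eq_inv_of_mul_eq_one_left e
    rw [hxe, orderOf_inv, Nat.coprime_self] at hco
    exact hy (orderOf_eq_one_iff.1 hco)
  obtain ⟨t, ht, hft⟩ := h.exists_type hxy
  have hcen := cen_mul_eq hc hco
  have hxt : HasType x t := ⟨ht, fun hd => hft (hd.trans (index_dvd_of_le (hcen.le.trans inf_le_left)))⟩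
  have hyt : HasType y t := ⟨ht, fun hd => hft (hd.trans (index_dvd_of_le (hcen.le.trans inf_le_right)))⟩
  rw [h.type_unique hx h1 hxt, h.type_unique hy h2 hyt]

theorem type_of_abelian {q k : ℕ} (hq : q ∈ (Nat.card T).primeFactors)
    (hab : ∀ [Fact q.Prime] (Q : Sylow q T), IsMulCommutative (Q : Subgroup T)) {x : T}
    (hx : orderOf x = q ^ k) : HasType x q := by
  haveI := Fact.mk (Nat.prime_of_mem_primeFactors hq)
  obtain ⟨Q, hQ⟩ := exists_sylow_mem hx
  exact ⟨hq, free_of_mem_abelian Q (hab Q) hQ⟩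

/-- An element of type `q` and `q`-power order whose centraliser is a `q`-group. -/
theorem cen_eq_sylow {q k : ℕ} [Fact q.Prime] {y : T} (hy : y ≠ 1) (hyo : orderOf y = q ^ k)
    (hty : HasType y q)
    (hab : ∀ s ∈ (Nat.card T).primeFactors, s ≠ q → ∀ [Fact s.Prime] (Q : Sylow s T),
      IsMulCommutative (Q : Subgroup T)) :
    ∃ Q : Sylow q T, centralizer ({y} : Set T) = Q := by
  set C := centralizer ({y} : Set T) with hC
  have hP : IsPGroup q C := by
    refine IsPGroup.of_card (n := (Nat.card C).primeFactorsList.length)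
      (Nat.eq_prime_pow_of_unique_prime_dvd Nat.card_pos.ne' fun {s} hs hsd => ?_)
    by_contra hne
    haveI := Fact.mk hs
    obtain ⟨z, hz⟩ := exists_prime_orderOf_dvd_card' s hsd
    have hzo : orderOf (z : T) = s ^ 1 := by rw [orderOf_coe, hz, pow_one]
    have hsT : s ∈ (Nat.card T).primeFactors :=
      Nat.mem_primeFactors.2 ⟨hs, hsd.trans (card_subgroup_dvd_card _), Nat.card_pos.ne'⟩
    have hz1 : (z : T) ≠ 1 := fun e => by
      rw [e, orderOf_one, pow_one] at hzo
      exact hs.one_lt.ne hzo
    refine hne (h.type_eq hy hz1 (mem_cen.mp z.2) ?_ hty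
      (h.type_of_abelian hsT (fun {_} Q => hab s hsT hne Q) hzo)).symm
    rw [hyo, hzo, pow_one]
    exact ((Nat.coprime_primes (Fact.out : q.Prime) hs).2 (Ne.symm hne)).pow_left k
  obtain ⟨Q, hQ⟩ := exists_sylow_le hty.2
  exact ⟨Q, Q.is_maximal' hP hQ⟩

end Setting

end Cfsg.Agent.Lib.TwoPrime82
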