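import Cfsg.Agent.Lib.TwoPrime82.Chars
import Cfsg.Agent.Lib.Characters.Degree
import Cfsg.Agent.Lib.CASimple67.Basic
import Cfsg.Agent.Lib.Involutions.Basic

/-!
# Two-prime simple groups: all centralisers are abelian Sylow subgroups
-/

set_option autoImplicit false
set_option linter.unusedSectionVars false
set_option linter.style.haveILetI false

namespace Cfsg.Agent.Lib.TwoPrime82

open Subgroup
open Cfsg.Agent.Lib.ClassSizes.Basic
open Cfsg.Agent.Lib.Characters.Basic (oneChar oneChar_apply)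

universe u

variable {T : Type u} [Group T] [Finite T]

theorem free_pow {q : ℕ} {y : T} (hy : Free q y) (m : ℕ) : Free q (y ^ m) := fun hd =>
  hy (hd.trans (index_dvd_of_le fun c hc =>
    mem_cen.mpr ((show Commute y c from mem_cen.mp hc).pow_left m)))

namespace Setting

variable (h : Setting T)
include h

theorem center_eq_bot : center T = ⊥ := by
  haveI := h.simple
  refine ((inferInstance : (center T).Normal).eq_bot_or_eq_top).resolve_right fun e => h.nab ?_
  exact ⟨⟨fun a b => (mem_center_iff.1 (e ▸ mem_top b) a)⟩⟩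

/-- Burnside: an element with class size prime to the degree is a zero. -/
theorem vanish [Fintype T] {p j : ℕ} (hp : p.Prime) (χ : Cfsg.IrrCharacter T) (hχ : χ ≠ oneChar T)
    (hd : (χ : T → ℂ) 1 = ((p ^ j : ℕ) : ℂ)) {y : T} (hy : y ≠ 1) (hf : Free p y) :
    (χ : T → ℂ) y = 0 := by
  haveI := h.simple
  obtain ⟨n, ρ, hρ, hchar⟩ := χ.2
  have hfin : Module.finrank ℂ (Fin n → ℂ) = p ^ j := by
    rw [← hchar, Representation.char_one] at hd
    exact_mod_cast hd
  rw [← hchar]
  have hcop : Nat.Coprime (Module.finrank ℂ (Fin n → ℂ)) (centralizer ({y} : Set T)).index := by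
    rw [hfin]
    exact ((hp.coprime_iff_not_dvd).2 hf).pow_left j
  refine (Induced.Integral.zero_or_norm_eq_of_coprime ρ y hcop).resolve_right fun hnorm => ?_
  obtain ⟨c, hc⟩ := Induced.Integral.scalar_of_norm_character_eq ρ hnorm
  rcases (inferInstance : (MonoidHom.ker ρ).Normal).eq_bot_or_eq_top with hker | hker
  · apply hy
    have hcen : y ∈ center T := by
      refine mem_center_iff.mpr fun g => ?_
      apply (MonoidHom.ker_eq_bot_iff ρ).mp hker
      rw [map_mul, map_mul, hc]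
      ext v
      simp
    rwa [h.center_eq_bot, mem_bot] at hcen
  · apply hχ
    by_contra hne
    have hρ1 : ∀ x : T, ρ x = 1 := fun x =>
      (MonoidHom.mem_ker (f := ρ)).mp (hker ▸ mem_top x)
    have hconst : (χ : T → ℂ) = ((p ^ j : ℕ) : ℂ) • (oneChar T : T → ℂ) := by
      funext x
      rw [Pi.smul_apply, oneChar_apply, smul_eq_mul, mul_one, ← hd, ← hchar]
      simp only [Representation.character, hρ1]
    have h1 := Characters.Basic.classInner_irr_of_ne hne
    rw [hconst, Induced.Basic.classInner_smul_left, Characters.Basic.classInner_self_irr, mul_one,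
      Nat.cast_eq_zero] at h1
    exact (pow_pos hp.pos j).ne' h1

theorem not_type [Fact (Nat.Prime 2)] {S : Sylow 2 T} (hS : ¬ IsMulCommutative (S : Subgroup T))
    {p r : ℕ} [Fact p.Prime] [Fact r.Prime] (hr : r ≠ 2)
    (hP : (Nat.card T).primeFactors = {2, p, r}) {y : T} (hy : y ≠ 1) {k : ℕ}
    (hyo : orderOf y = 2 ^ k) : ¬ HasType y p := by
  intro hty
  haveI := Fintype.ofFinite T
  have hrT : r ∈ (Nat.card T).primeFactors := by rw [hP]; simp
  obtain ⟨R⟩ : Nonempty (Sylow r T) := inferInstance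
  obtain ⟨w, a, f, P⟩ := (RSetting.mk h hr hrT (h.aut_eq_two hS hrT hr R) : RSetting R).exists_proj
  obtain ⟨χ, hχ, d, hd, hodd, hrd⟩ := P.exists_char
  obtain ⟨j, rfl⟩ : ∃ j, d = p ^ j := by
    refine ⟨d.primeFactorsList.length, Nat.eq_prime_pow_of_unique_prime_dvd hodd.pos.ne' fun {s} hs hsd => ?_⟩
    have hdT : d ∣ Nat.card T := by
      obtain ⟨e, -, he, he'⟩ := Characters.Degree.exists_degree_dvd χ
      rw [hd, Nat.cast_inj] at he'
      exact he' ▸ he
    have : s ∈ ({2, p, r} : Finset ℕ) :=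
      hP ▸ Nat.mem_primeFactors.2 ⟨hs, hsd.trans hdT, Nat.card_pos.ne'⟩
    simp only [Finset.mem_insert, Finset.mem_singleton] at this
    rcases this with rfl | rfl | rfl
    · exact absurd hsd hodd.not_two_dvd_nat
    · rfl
    · exact absurd hsd hrd
  set Y := zpowers y
  haveI := Fintype.ofFinite Y
  have hsum : ∑ v : Y, (χ : T → ℂ) v = ((p ^ j : ℕ) : ℂ) := by
    rw [Finset.sum_eq_single (1 : Y)]
    · simpa using hd
    · rintro ⟨v, hv⟩ - hne
      obtain ⟨m, rfl⟩ := mem_powers_iff_mem_zpowers.2 hv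
      exact h.vanish Fact.out χ hχ hd (fun e => hne (Subtype.ext e)) (free_pow hty.2 m)
    · exact fun e => absurd (Finset.mem_univ _) e
  obtain ⟨m, hm⟩ := Characters.Basic.exists_classInner_nat
    (Characters.Basic.isCharacter_comp Y.subtype (Characters.Basic.isCharacter_irr χ))
    (Characters.Basic.isCharacter_one (G := Y))
  simp only [Cfsg.classInner, Function.comp_apply, Subgroup.coe_subtype, Pi.one_apply, map_one,
    mul_one, hsum] at hm
  rw [inv_mul_eq_iff_eq_mul₀ (Nat.cast_ne_zero.2 Nat.card_pos.ne'), ← Nat.cast_mul, Nat.cast_inj,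
    Nat.card_zpowers, hyo] at hm
  have hk : k ≠ 0 := fun e => hy (orderOf_eq_one_iff.1 (by rw [hyo, e, pow_zero]))
  exact hodd.not_two_dvd_nat (hm ▸ (dvd_pow_self 2 hk).mul_right m)

theorem cen_two [Fact (Nat.Prime 2)] {S : Sylow 2 T} (hS : ¬ IsMulCommutative (S : Subgroup T))
    {y : T} (hy : y ≠ 1) {k : ℕ} (hyo : orderOf y = 2 ^ k) :
    Nat.card (centralizer ({y} : Set T)) = Nat.card (S : Subgroup T) := by
  obtain ⟨p, r, hp, hr, hp2, hr2, hpr, hP⟩ := h.exists_primes
  haveI := Fact.mk hp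
  haveI := Fact.mk hr
  obtain ⟨t, ht, hft⟩ := h.exists_type hy
  have ht' := ht
  rw [hP] at ht'
  simp only [Finset.mem_insert, Finset.mem_singleton] at ht'
  rcases ht' with e | e | e <;> subst e
  · obtain ⟨Q, hQ⟩ := h.cen_eq_sylow hy hyo ⟨ht, hft⟩
      (fun s hs hs2 {_} Q => h.odd_abelian hs hs2 Q)
    rw [hQ, Q.card_eq_multiplicity, S.card_eq_multiplicity]
  · exact absurd ⟨ht, hft⟩ (h.not_type hS hr2 hP hy hyo)
  · exact absurd ⟨ht, hft⟩ (h.not_type hS hp2 (hP.trans (by rw [Finset.pair_comm p t])) hy hyo)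

theorem cen_eq_of_le [Fact (Nat.Prime 2)] {S : Sylow 2 T}
    (hS : ¬ IsMulCommutative (S : Subgroup T)) {y : T} (m : ℕ) (hy : y ≠ 1) (hym : y ^ m ≠ 1)
    (hyS : y ∈ (S : Subgroup T)) :
    centralizer ({y} : Set T) = centralizer ({y ^ m} : Set T) := by
  obtain ⟨k, hk⟩ := IsPGroup.iff_orderOf.mp S.isPGroup' ⟨y, hyS⟩
  obtain ⟨k', hk'⟩ := IsPGroup.iff_orderOf.mp S.isPGroup' ⟨y ^ m, pow_mem hyS m⟩
  rw [← orderOf_coe] at hk hk'
  exact Subgroup.eq_of_le_of_card_ge
    (fun c hc => mem_cen.mpr ((show Commute y c from mem_cen.mp hc).pow_left m))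
    (by rw [h.cen_two hS hym hk', h.cen_two hS hy hk])

theorem two_abelian [Fact (Nat.Prime 2)] (S : Sylow 2 T) : IsMulCommutative (S : Subgroup T) := by
  by_contra hS
  have hhalf : ∀ s ∈ (S : Subgroup T), s ≠ 1 → ∃ m : ℕ, orderOf (s ^ m) = 2 := by
    intro s hs hs1
    obtain ⟨k, hk⟩ := IsPGroup.iff_orderOf.mp S.isPGroup' ⟨s, hs⟩
    rw [← orderOf_coe] at hk
    simp only at hk
    obtain ⟨i, rfl⟩ : ∃ i, k = i + 1 := ⟨k - 1, by
      rcases k with _ | k
      · exact absurd (orderOf_eq_one_iff.1 (by rw [hk, pow_zero])) hs1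
      · rfl⟩
    refine ⟨2 ^ i, ?_⟩
    rw [orderOf_pow' s (by positivity), hk, pow_succ,
      Nat.gcd_eq_right (dvd_mul_right _ _), Nat.mul_div_cancel_left _ (by positivity)]
  have hinvol : ∀ a ∈ (S : Subgroup T), ∀ b ∈ (S : Subgroup T), orderOf a = 2 → orderOf b = 2 →
      a * b = b * a := by
    intro a ha b hb hao hbo
    have haa := Involutions.Basic.invol_mul_self hao
    have hbb := Involutions.Basic.invol_mul_self hbo
    have hai := Involutions.Basic.invol_inv hao
    have hbi := Involutions.Basic.invol_inv hbo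
    by_contra hne
    have hc1 : a * b ≠ 1 := fun e => hne (by
      have : b * a = 1 := by rw [← hai, ← hbi, ← mul_inv_rev, e, inv_one]
      rw [e, this])
    obtain ⟨m, hm⟩ := hhalf _ (mul_mem ha hb) hc1
    have hv1 := Involutions.Basic.invol_ne_one hm
    have he := h.cen_eq_of_le hS m hc1 hv1 (mul_mem ha hb)
    have hconj : a * (a * b) * a⁻¹ = (a * b)⁻¹ := by
      rw [mul_inv_rev, hai, hbi, ← mul_assoc, haa, one_mul]
    have hmem : a ∈ centralizer ({(a * b) ^ m} : Set T) := by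
      refine mem_cen.mpr (mul_inv_eq_iff_eq_mul.1 ?_).symm
      rw [← conj_pow, hconj, inv_pow]
      exact Involutions.Basic.invol_inv hm
    rw [← he] at hmem
    have h2 := mem_cen.mp hmem
    apply hne
    calc a * b = a * b * a * a := by rw [mul_assoc _ a, haa, mul_one]
      _ = a * (a * b) * a := by rw [h2]
      _ = b * a := by rw [← mul_assoc, haa, one_mul]
  have hcentral : ∀ u ∈ (S : Subgroup T), orderOf u = 2 → ∀ s ∈ (S : Subgroup T), u * s = s * u := by
    intro u hu huo s hs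
    by_cases hs1 : s = 1
    · rw [hs1, mul_one, one_mul]
    obtain ⟨m, hm⟩ := hhalf s hs hs1
    have he := h.cen_eq_of_le hS m hs1 (Involutions.Basic.invol_ne_one hm) hs
    have hu' : u ∈ centralizer ({s} : Set T) := by
      rw [he]; exact mem_cen.mpr (hinvol _ (pow_mem hs m) u hu hm huo)
    exact (mem_cen.mp hu').symm
  refine hS ⟨⟨fun a b => Subtype.ext ?_⟩⟩
  show (a : T) * b = b * a
  by_cases ha : (a : T) = 1
  · rw [ha, mul_one, one_mul]
  obtain ⟨m, hm⟩ := hhalf a a.2 ha
  have he := h.cen_eq_of_le hS m ha (Involutions.Basic.invol_ne_one hm) a.2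
  have hb : (b : T) ∈ centralizer ({(a : T)} : Set T) := by
    rw [he, h.cen_central_two S (pow_mem a.2 m) (Involutions.Basic.invol_ne_one hm)
      (hcentral _ (pow_mem a.2 m) hm)]
    exact b.2
  exact mem_cen.mp hb

/-- All centralisers of non-identity elements are abelian Sylow subgroups. -/
theorem cen_sylow {x : T} (hx : x ≠ 1) :
    ∃ (q : ℕ) (_ : Fact q.Prime) (Q : Sylow q T), centralizer ({x} : Set T) = Q ∧
      IsMulCommutative (Q : Subgroup T) :=
  h.cen_eq_of_abelian (fun {_} S => h.two_abelian S) hx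

theorem isCT : CASimple67.IsCT T := by
  intro a b c _ hb _ hab hbc
  obtain ⟨q, _, Q, hQ, hQc⟩ := h.cen_sylow hb
  have ha : a ∈ (Q : Subgroup T) := hQ ▸ mem_cen.mpr hab.symm.eq
  have hc : c ∈ (Q : Subgroup T) := hQ ▸ mem_cen.mpr hbc.eq
  exact congrArg Subtype.val (hQc.is_comm.comm (⟨a, ha⟩ : (Q : Subgroup T)) ⟨c, hc⟩)

end Setting

end Cfsg.Agent.Lib.TwoPrime82
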